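import Cfsg.Agent.Lib.Coprime.PGroup
import Mathlib.GroupTheory.Frattini
import Mathlib.GroupTheory.IsSubnormal
import Mathlib.GroupTheory.SpecificGroups.Cyclic

/-!
Elementary facts for the solvable and nilpotent block.
-/

set_option autoImplicit false

namespace Cfsg.Agent.Solvable.Basics

variable {G : Type*} [Group G]

theorem index_prime_of_normal_coatom [Finite G] {M : Subgroup G} [M.Normal] (hM : IsCoatom M) :
    M.index.Prime := by
  obtain ⟨p, hp, hdvd⟩ := Nat.exists_prime_and_dvd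
    (Subgroup.one_lt_index_of_ne_top hM.1).ne'
  have := Fact.mk hp
  obtain ⟨x, hx⟩ := exists_prime_orderOf_dvd_card' (G := G ⧸ M) p hdvd
  have htop : (Subgroup.zpowers x).comap (QuotientGroup.mk' M) = ⊤ := by
    refine hM.2 _ (lt_of_le_of_ne ?_ ?_)
    · intro m hm
      rw [Subgroup.mem_comap, QuotientGroup.mk'_apply, (QuotientGroup.eq_one_iff m).mpr hm]
      exact one_mem _
    · intro heq
      obtain ⟨y, rfl⟩ := QuotientGroup.mk'_surjective M x
      have hy : y ∈ M := by rw [heq, Subgroup.mem_comap]; exact Subgroup.mem_zpowers _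
      rw [QuotientGroup.mk'_apply, (QuotientGroup.eq_one_iff y).mpr hy, orderOf_one] at hx
      exact hp.ne_one hx.symm
  have htop' : Subgroup.zpowers x = ⊤ := by
    rw [← Subgroup.map_comap_eq_self_of_surjective (QuotientGroup.mk'_surjective M)
      (Subgroup.zpowers x), htop, Subgroup.map_top_of_surjective _
      (QuotientGroup.mk'_surjective M)]
  rw [← hx, ← Nat.card_zpowers, htop', Subgroup.card_top, ← Subgroup.index_eq_card] at hp
  exact hp

theorem pow_mem_frattini [Finite G] {p : ℕ} [hp : Fact p.Prime] (hG : IsPGroup p G) (x : G) :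
    x ^ p ∈ frattini G := by
  have := hG.isNilpotent
  rw [frattini, Order.radical, Subgroup.mem_iInf]
  intro M
  rw [Subgroup.mem_iInf]
  intro hM
  have := Subgroup.NormalizerCondition.normal_of_coatom M Group.normalizerCondition_of_isNilpotent hM
  have hi := index_prime_of_normal_coatom hM
  obtain ⟨k, hk⟩ := hG.index M
  have hip : M.index = p := ((Nat.prime_dvd_prime_iff_eq hi hp.out).mp
    (hi.dvd_of_dvd_pow hk.dvd : M.index ∣ p))
  exact hip ▸ M.pow_index_mem x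

theorem card_mul_relIndex [Finite G] {C K : Subgroup G} (h : C ≤ K) :
    Nat.card C * C.relIndex K = Nat.card K := by
  rw [Subgroup.relIndex, ← Nat.card_congr (Subgroup.subgroupOfEquivOfLe h).toEquiv,
    Subgroup.card_mul_index]

theorem relIndex_sup_zpowers_dvd {H : Subgroup G} [H.Normal] {x : G} {p : ℕ} (hp : x ^ p ∈ H) :
    H.relIndex (H ⊔ Subgroup.zpowers x) ∣ p := by
  have h := Subgroup.relIndex_ker (QuotientGroup.mk' H) (K := H ⊔ Subgroup.zpowers x)
  rw [QuotientGroup.ker_mk'] at h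
  rw [h, Subgroup.map_sup, QuotientGroup.map_mk'_self, bot_sup_eq, MonoidHom.map_zpowers,
    Nat.card_zpowers, orderOf_dvd_iff_pow_eq_one, QuotientGroup.mk'_apply, ← QuotientGroup.mk_pow,
    QuotientGroup.eq_one_iff]
  exact hp

/-- An element outside a normal subgroup with elementary abelian quotient is avoided by some
maximal subgroup above it. -/
theorem exists_coatom_notMem [Finite G] {p : ℕ} (hp : p.Prime) {N : Subgroup G}
    (hcomm : commutator G ≤ N) (hpow : ∀ x : G, x ^ p ∈ N) {x : G} (hx : x ∉ N) :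
    ∃ M : Subgroup G, IsCoatom M ∧ N ≤ M ∧ x ∉ M := by
  obtain ⟨M, hNM, ⟨hNM', hxM⟩, hmax⟩ := Set.Finite.exists_le_maximal
    (Set.toFinite {M : Subgroup G | N ≤ M ∧ x ∉ M}) (a := N) ⟨le_rfl, hx⟩
  have hMn : M.Normal := Subgroup.Normal.of_commutator_le G (hcomm.trans hNM)
  have htop : M ⊔ Subgroup.zpowers x = ⊤ := by
    rw [eq_top_iff]
    intro g _
    by_cases hg : g ∈ M
    · exact Subgroup.mem_sup_left hg
    have hxg : x ∈ M ⊔ Subgroup.zpowers g := by
      by_contra h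
      exact hg (hmax ⟨hNM.trans le_sup_left, h⟩ le_sup_left
        (Subgroup.mem_sup_right (Subgroup.mem_zpowers g)))
    have hle : M ⊔ Subgroup.zpowers x ≤ M ⊔ Subgroup.zpowers g :=
      sup_le le_sup_left (Subgroup.zpowers_le.mpr hxg)
    have h1 : M.relIndex (M ⊔ Subgroup.zpowers x) ≠ 1 := fun h =>
      hxM (Subgroup.relIndex_eq_one.mp h (Subgroup.mem_sup_right (Subgroup.mem_zpowers x)))
    have h2 := (Nat.dvd_prime hp).mp (relIndex_sup_zpowers_dvd (hNM (hpow g)))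
    have h3 := (Nat.dvd_prime hp).mp (relIndex_sup_zpowers_dvd (hNM (hpow x)))
    have h4 := Subgroup.relIndex_mul_relIndex M _ _ le_sup_left hle
    rcases h3 with h3 | h3
    · exact absurd h3 h1
    have h5 : (M ⊔ Subgroup.zpowers x).relIndex (M ⊔ Subgroup.zpowers g) = 1 := by
      rcases h2 with h2 | h2
      · rw [h2] at h4; exact Nat.eq_one_of_mul_eq_one_left h4
      · rw [h2, h3] at h4
        exact (mul_eq_left₀ hp.ne_zero).mp h4
    exact Subgroup.relIndex_eq_one.mp h5 (Subgroup.mem_sup_right (Subgroup.mem_zpowers g))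
  refine ⟨M, ⟨fun h => hxM (h ▸ Subgroup.mem_top x), fun L hL => ?_⟩, hNM, hxM⟩
  have hxL : x ∈ L := by
    by_contra h
    exact hL.not_ge (hmax ⟨hNM.trans hL.le, h⟩ hL.le)
  exact eq_top_iff.mpr (htop ▸ sup_le hL.le (Subgroup.zpowers_le.mpr hxL))

theorem inf_center_ne_bot [Finite G] [Group.IsNilpotent G] {N : Subgroup G} [N.Normal]
    (hN : N ≠ ⊥) : N ⊓ Subgroup.center G ≠ ⊥ := by
  have : Group.IsNilpotent (⊤ : Subgroup G) := Group.isNilpotent_top.mpr inferInstance
  obtain ⟨M, hMN, ⟨hMn, hM⟩, hmin⟩ := Set.Finite.exists_le_minimal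
    (Set.toFinite {M : Subgroup G | M.Normal ∧ M ≠ ⊥}) (a := N) ⟨inferInstance, hN⟩
  have hlt := Cfsg.Agent.Coprime.commutator_lt_of_isNilpotent (Y := ⊤) le_top hM
    Subgroup.le_normalizer_of_normal
  have hbot : ⁅M, (⊤ : Subgroup G)⁆ = ⊥ := by
    by_contra h
    exact hlt.not_ge (hmin ⟨inferInstance, h⟩ hlt.le)
  rw [Subgroup.commutator_top_right_eq_bot_iff_le_center] at hbot
  exact fun h => hM (le_bot_iff.mp (h ▸ le_inf hMN hbot))

theorem isPGroup_of_forall_pow_eq_one {p : ℕ} {N : Subgroup G} (h : ∀ x ∈ N, x ^ p = 1) :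
    IsPGroup p N :=
  fun x => ⟨1, Subtype.ext (by simpa using h x x.2)⟩

theorem minimal_normal_solvable [Finite G] {N : Subgroup G} [N.Normal]
    (hsol : Group.IsSolvable N) (hN : N ≠ ⊥)
    (hmin : ∀ M : Subgroup G, M.Normal → M ≤ N → M = ⊥ ∨ M = N) :
    IsMulCommutative N ∧ ∃ p : ℕ, p.Prime ∧ ∀ x ∈ N, x ^ p = 1 := by
  have hlt := Cfsg.Agent.Coprime.commutator_lt_of_isSolvable hsol hN
  have hab : IsMulCommutative N := Subgroup.commutator_self_eq_bot_iff.mp
    ((hmin _ inferInstance hlt.le).resolve_right hlt.ne)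
  refine ⟨hab, ?_⟩
  obtain ⟨p, hp, hdvd⟩ := Nat.exists_prime_and_dvd
    (mt Subgroup.card_eq_one.mp hN : Nat.card N ≠ 1)
  have := Fact.mk hp
  obtain ⟨⟨x, hx⟩, hxo⟩ := exists_prime_orderOf_dvd_card' p hdvd
  rw [Subgroup.orderOf_mk] at hxo
  let M : Subgroup G :=
    { carrier := {y | y ∈ N ∧ y ^ p = 1}
      one_mem' := ⟨one_mem N, one_pow p⟩
      mul_mem' := fun {a b} ha hb => ⟨mul_mem ha.1 hb.1, by
        have hc : Commute a b :=
          congrArg Subtype.val (hab.is_comm.comm (⟨a, ha.1⟩ : N) ⟨b, hb.1⟩)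
        rw [hc.mul_pow, ha.2, hb.2, one_mul]⟩
      inv_mem' := fun {a} ha => ⟨inv_mem ha.1, by rw [inv_pow, ha.2, inv_one]⟩ }
  have hMn : M.Normal := ⟨fun y hy g => ⟨Subgroup.Normal.conj_mem inferInstance y hy.1 g, by
    rw [conj_pow, hy.2, mul_one, mul_inv_cancel]⟩⟩
  have hMbot : M ≠ ⊥ := fun h => by
    have hxM : x ∈ M := ⟨hx, hxo ▸ pow_orderOf_eq_one x⟩
    rw [h, Subgroup.mem_bot] at hxM
    rw [hxM, orderOf_one] at hxo
    exact hp.ne_one hxo.symm
  have hMN := (hmin M hMn fun y hy => hy.1).resolve_left hMbot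
  exact ⟨p, hp, fun y hy => (hMN.symm ▸ hy : y ∈ M).2⟩

theorem exists_minimal_normal [Finite G] {N : Subgroup G} [N.Normal] (hN : N ≠ ⊥) :
    ∃ M : Subgroup G, M.Normal ∧ M ≤ N ∧ M ≠ ⊥ ∧
      ∀ L : Subgroup G, L.Normal → L ≤ M → L = ⊥ ∨ L = M := by
  obtain ⟨M, hMN, ⟨hMn, hM⟩, hmin⟩ := Set.Finite.exists_le_minimal
    (Set.toFinite {M : Subgroup G | M.Normal ∧ M ≠ ⊥}) (a := N) ⟨inferInstance, hN⟩
  refine ⟨M, hMn, hMN, hM, fun L hLn hLM => ?_⟩
  by_cases hL : L = ⊥
  · exact Or.inl hL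
  · exact Or.inr (le_antisymm hLM (hmin ⟨hLn, hL⟩ hLM))

end Cfsg.Agent.Solvable.Basics
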