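import Cfsg.Agent.Lib.Hall.Solvable
import Cfsg.Agent.Lib.Hall.MinimalNormal

/-!
Carter subgroups of finite solvable groups: existence and conjugacy.
-/

set_option autoImplicit false

namespace Cfsg.Agent.Solvable.Carter

open scoped Pointwise
open Cfsg.Agent.Coprime

variable {G : Type*} [Group G]

/-- A nilpotent subgroup equal to its normalizer. -/
def IsCarter (C : Subgroup G) : Prop :=
  Group.IsNilpotent C ∧ Subgroup.normalizer (C : Set G) = C

theorem eq_of_le_nilpotent {C K : Subgroup G} (hK : Group.IsNilpotent K) (hle : C ≤ K)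
    (hC : Subgroup.normalizer (C : Set G) = C) : C = K := by
  refine le_antisymm hle (Subgroup.subgroupOf_eq_top.mp ?_)
  by_contra h
  have h1 := Group.normalizerCondition_of_isNilpotent (h := hK) _ (lt_top_iff_ne_top.mpr h)
  rw [← Subgroup.subgroupOf_normalizer_eq hle, hC] at h1
  exact lt_irrefl _ h1

theorem le_of_coprime_relIndex [Finite G] {H H' C : Subgroup G}
    (hn : C ≤ Subgroup.normalizer (H : Set G)) (hH : H ≤ C) (hH' : H' ≤ C)
    (hcop : (Nat.card H').Coprime (H.relIndex C)) : H' ≤ H := by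
  intro x hx
  haveI : (H.subgroupOf C).Normal := (Subgroup.normal_subgroupOf_iff_le_normalizer hH).mpr hn
  have h1 : (⟨x, hH' hx⟩ : C) ^ H.relIndex C ∈ H.subgroupOf C := Subgroup.pow_index_mem _ _
  rw [Subgroup.mem_subgroupOf, Subgroup.coe_pow] at h1
  obtain ⟨m, hm⟩ := exists_pow_eq_self_of_coprime (n := H.relIndex C) (x := x)
    (hcop.coprime_dvd_left (Subgroup.orderOf_dvd_natCard H' hx)).symm
  rw [← hm]
  exact pow_mem h1 m

theorem hall_unique [Finite G] {π : Set ℕ} {H H' C : Subgroup G}
    (hn : C ≤ Subgroup.normalizer (H : Set G)) (hH : H ≤ C) (hH' : H' ≤ C)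
    (h : Cfsg.IsPiHall π H) (hcard : Nat.card H' = Nat.card H) : H' = H :=
  Subgroup.eq_of_le_of_card_ge (le_of_coprime_relIndex hn hH hH'
    (hcard ▸ ((Cfsg.Agent.Hall.isPiHall_coprime h h.1).coprime_dvd_right
      (Subgroup.relIndex_dvd_index_of_le hH |> fun hd => by
        rw [← Subgroup.relIndex_mul_index hH]; exact Dvd.intro _ rfl)))) hcard.ge

theorem normal_hall_of_nilpotent [Finite G] [hG : Group.IsNilpotent G] {π : Set ℕ}
    {H : Subgroup G} (h : Cfsg.IsPiHall π H) : H.Normal := by
  rw [← Subgroup.normalizer_eq_top_iff]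
  by_contra hne
  obtain ⟨x, hx, hx'⟩ := SetLike.exists_of_lt
    (Group.normalizerCondition_of_isNilpotent _ (lt_top_iff_ne_top.mpr hne))
  refine hx' (conj_smul_eq_self_iff.mp ?_)
  refine hall_unique le_rfl Subgroup.le_normalizer ?_ h (card_conj_smul x H)
  rw [← conj_smul_eq_self_iff.mpr hx]
  exact Subgroup.pointwise_smul_le_pointwise_smul_iff.mpr Subgroup.le_normalizer

theorem nilpotent_normalizer_hall [Finite G] {p : ℕ} (hp : p.Prime) {N : Subgroup G} [N.Normal]
    (hN : IsPGroup p N) [Group.IsNilpotent (G ⧸ N)] {H : Subgroup G}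
    (h : Cfsg.IsPiHall {q | q ≠ p} H) :
    Group.IsNilpotent (Subgroup.normalizer (H : Set G)) := by
  haveI := Fact.mk hp
  set M := Subgroup.normalizer (H : Set G) with hM
  haveI : (H.subgroupOf M).Normal := Subgroup.normal_in_normalizer
  have hidx : Nat.card (M ⧸ H.subgroupOf M) ∣ H.index := by
    rw [← Subgroup.index_eq_card, ← Subgroup.relIndex_mul_index (Subgroup.le_normalizer (H := H))]
    exact Dvd.intro _ rfl
  have hq : IsPGroup p (M ⧸ H.subgroupOf M) := by
    refine IsPGroup.of_card (n := (Nat.card (M ⧸ H.subgroupOf M)).factorization p) ?_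
    by_contra hne
    obtain ⟨q, hq, hd, hqp⟩ : ∃ q : ℕ, q.Prime ∧ q ∣ Nat.card (M ⧸ H.subgroupOf M) ∧ q ≠ p := by
      by_contra hall
      push Not at hall
      exact hne (Nat.eq_prime_pow_of_unique_prime_dvd Nat.card_pos.ne'
        (fun {d} hd hdd => hall d hd hdd) ▸ by simp [hp])
    exact h.2 q hq hqp (hd.trans hidx)
  haveI := hq.isNilpotent
  refine isNilpotent_of_ker_le_center
    (((QuotientGroup.mk' N).comp M.subtype).prod (QuotientGroup.mk' (H.subgroupOf M))) ?_
  have hdis : H ⊓ N = ⊥ := by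
    obtain ⟨n, hn⟩ := IsPGroup.iff_card.mp hN
    refine disjoint_iff.mp (Cfsg.Agent.Coprime.disjoint_of_coprime ?_)
    rw [hn]
    exact Nat.Coprime.pow_right _
      ((Nat.coprime_comm).mp ((Nat.Prime.coprime_iff_not_dvd hp).mpr fun hd => h.1 p hp hd rfl))
  intro x hx
  rw [MonoidHom.ker_prod, Subgroup.mem_inf, MonoidHom.mem_ker, MonoidHom.mem_ker] at hx
  have h1 : (x : G) ∈ N := (QuotientGroup.eq_one_iff _).mp hx.1
  have h2 : (x : G) ∈ H := Subgroup.mem_subgroupOf.mp ((QuotientGroup.eq_one_iff x).mp hx.2)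
  have h3 : (x : G) ∈ H ⊓ N := ⟨h2, h1⟩
  rw [hdis, Subgroup.mem_bot] at h3
  rw [show x = 1 from Subtype.ext h3]
  exact one_mem _

theorem isCarter_conj {C : Subgroup G} (h : IsCarter C) (g : G) :
    IsCarter (MulAut.conj g • C) :=
  ⟨haveI := h.1;
    Group.nilpotent_of_mulEquiv (Subgroup.equivSMul (MulAut.conj g) C),
    by rw [← conj_smul_normalizer, h.2]⟩

theorem isCarter_subgroupOf {C L : Subgroup G} (h : IsCarter C) (hle : C ≤ L) :
    IsCarter (C.subgroupOf L) :=
  ⟨haveI := h.1;
    Group.nilpotent_of_mulEquiv (Subgroup.subgroupOfEquivOfLe hle).symm,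
    by rw [← Subgroup.subgroupOf_normalizer_eq hle, h.2]⟩

theorem carter_aux : ∀ (n : ℕ) (G : Type*) [Group G] [Finite G] [Group.IsSolvable G],
    Nat.card G = n → (∃ C : Subgroup G, IsCarter C) ∧
      ∀ C D : Subgroup G, IsCarter C → IsCarter D → ∃ g : G, MulAut.conj g • C = D := by
  intro n
  induction n using Nat.strongRecOn with
  | ind n ih =>
  intro G _ _ _ hn
  rcases subsingleton_or_nontrivial G with hs | hnt
  · exact ⟨⟨⊤, inferInstance, Subsingleton.elim _ _⟩, fun C D _ _ =>
      ⟨1, Subsingleton.elim _ _⟩⟩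
  -- conjugacy inside proper subgroups
  have hsub : ∀ L : Subgroup G, L ≠ ⊤ → ∀ C D : Subgroup G, IsCarter C → IsCarter D →
      C ≤ L → D ≤ L → ∃ g ∈ L, MulAut.conj g • C = D := by
    intro L hL C D hC hD hCL hDL
    have hlt : Nat.card L < n := hn ▸ lt_of_le_of_ne (Subgroup.card_le_card_group L)
      (fun h => hL (Subgroup.eq_top_of_card_eq L h))
    obtain ⟨g, hg⟩ := (ih _ hlt L rfl).2 _ _ (isCarter_subgroupOf hC hCL)
      (isCarter_subgroupOf hD hDL)
    refine ⟨g, g.2, ?_⟩
    have h1 := congrArg (Subgroup.map L.subtype) hg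
    rwa [map_conj_smul, Subgroup.map_subgroupOf_eq_of_le hCL,
      Subgroup.map_subgroupOf_eq_of_le hDL] at h1
  obtain ⟨N, hNn, -, hN1, hNmin⟩ := Cfsg.Agent.Hall.exists_minimal_normal (⊤ : Subgroup G) top_ne_bot
  obtain ⟨p, hp, -, hNp, -⟩ := Cfsg.Agent.Hall.minimal_normal_isElementaryAbelian hN1 hNmin
  have hlt : Nat.card (G ⧸ N) < n := by
    rw [← hn, Subgroup.card_eq_card_quotient_mul_card_subgroup N]
    exact lt_mul_of_one_lt_right Nat.card_pos ((Subgroup.one_lt_card_iff_ne_bot _).mpr hN1)
  have hQ := ih _ hlt (G ⧸ N) rfl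
  -- a Carter subgroup times a normal subgroup is self-normalizing
  have hself : ∀ C : Subgroup G, IsCarter C →
      Subgroup.normalizer ((C ⊔ N : Subgroup G) : Set G) = C ⊔ N := by
    intro C hC
    refine le_antisymm ?_ Subgroup.le_normalizer
    intro x hx
    by_cases hL : C ⊔ N = ⊤
    · rw [hL]; exact Subgroup.mem_top x
    obtain ⟨g, hg, hgx⟩ := hsub _ hL C (MulAut.conj x • C) hC (isCarter_conj hC x) le_sup_left
      (by
        rw [← conj_smul_eq_self_iff.mpr hx]
        exact Subgroup.pointwise_smul_le_pointwise_smul_iff.mpr le_sup_left)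
    have h1 : g⁻¹ * x ∈ C := by
      rw [← hC.2]
      refine conj_smul_eq_self_iff.mp ?_
      rw [conj_smul_mul, ← hgx, conj_inv_smul_smul]
    have h2 := mul_mem hg (Subgroup.mem_sup_left (T := N) h1)
    rwa [mul_inv_cancel_left] at h2
  have hcm : ∀ C : Subgroup G,
      (C.map (QuotientGroup.mk' N)).comap (QuotientGroup.mk' N) = C ⊔ N := by
    intro C
    rw [Subgroup.comap_map_eq, QuotientGroup.ker_mk']
  have himage : ∀ C : Subgroup G, IsCarter C → IsCarter (C.map (QuotientGroup.mk' N)) := by
    intro C hC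
    refine ⟨haveI := hC.1;
      Group.nilpotent_of_surjective ((QuotientGroup.mk' N).subgroupMap C)
        ((QuotientGroup.mk' N).subgroupMap_surjective C), ?_⟩
    refine Subgroup.comap_injective (QuotientGroup.mk'_surjective N) ?_
    rw [Subgroup.comap_normalizer_eq_of_surjective _ (QuotientGroup.mk'_surjective N), hcm]
    exact hself C hC
  refine ⟨?_, ?_⟩
  · obtain ⟨Cq, hCq⟩ := hQ.1
    set L := Cq.comap (QuotientGroup.mk' N) with hLdef
    have hLn : Subgroup.normalizer (L : Set G) = L := by
      rw [hLdef, ← Subgroup.comap_normalizer_eq_of_surjective _ (QuotientGroup.mk'_surjective N),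
        hCq.2]
    by_cases hL : L = ⊤
    · -- nilpotent quotient
      have hCtop : Cq = ⊤ := by
        rw [← Subgroup.map_comap_eq_self_of_surjective (QuotientGroup.mk'_surjective N) Cq,
          ← hLdef, hL, Subgroup.map_top_of_surjective _ (QuotientGroup.mk'_surjective N)]
      haveI : Group.IsNilpotent (G ⧸ N) := by
        have h1 := hCq.1
        rw [hCtop] at h1
        exact Group.nilpotent_of_mulEquiv Subgroup.topEquiv
      obtain ⟨H, hH⟩ := Cfsg.Agent.Hall.exists_hall {q | q ≠ p} G
      haveI := Fact.mk hp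
      refine ⟨_, nilpotent_normalizer_hall hp hNp hH, le_antisymm ?_ Subgroup.le_normalizer⟩
      intro x hx
      refine conj_smul_eq_self_iff.mp (hall_unique le_rfl Subgroup.le_normalizer ?_ hH
        (card_conj_smul x H))
      rw [← conj_smul_eq_self_iff.mpr hx]
      exact Subgroup.pointwise_smul_le_pointwise_smul_iff.mpr Subgroup.le_normalizer
    · have hlt' : Nat.card L < n := hn ▸ lt_of_le_of_ne (Subgroup.card_le_card_group L)
        (fun h => hL (Subgroup.eq_top_of_card_eq L h))
      obtain ⟨C₀, hC₀⟩ := (ih _ hlt' L rfl).1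
      set C := C₀.map L.subtype with hCdef
      have hCL : C ≤ L := Subgroup.map_subtype_le _
      have hC₀eq : C.subgroupOf L = C₀ :=
        Subgroup.comap_map_eq_self_of_injective Subtype.coe_injective _
      haveI := hC₀.1
      haveI hCnil : Group.IsNilpotent C :=
        Group.nilpotent_of_mulEquiv (C₀.equivMapOfInjective L.subtype Subtype.coe_injective)
      have hNL : N ≤ L := by
        intro y hy
        rw [hLdef, Subgroup.mem_comap, QuotientGroup.mk'_apply,
          (QuotientGroup.eq_one_iff y).mpr hy]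
        exact one_mem _
      -- C N = L
      have hCN : C.map (QuotientGroup.mk' N) = Cq := by
        have hle : C.map (QuotientGroup.mk' N) ≤ Cq := Subgroup.map_le_iff_le_comap.mpr hCL
        refine le_antisymm hle ?_
        have hsn : ∀ y ∈ L, y ∈ Subgroup.normalizer ((C ⊔ N : Subgroup G) : Set G) →
            y ∈ C ⊔ N := by
          intro y hy hyn
          have hconj : MulAut.conj (⟨y, hy⟩ : L) • ((C ⊔ N).subgroupOf L) =
              (C ⊔ N).subgroupOf L := by
            rw [conj_smul_eq_self_iff, ← Subgroup.subgroupOf_normalizer_eq (sup_le hCL hNL)]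
            exact hyn
          have hC' : IsCarter (MulAut.conj (⟨y, hy⟩ : L) • C₀) := isCarter_conj hC₀ _
          have hcs : C₀ ≤ (C ⊔ N).subgroupOf L :=
            hC₀eq ▸ Subgroup.comap_mono le_sup_left
          have hcs' : MulAut.conj (⟨y, hy⟩ : L) • C₀ ≤ (C ⊔ N).subgroupOf L := by
            rw [← hconj]
            exact Subgroup.pointwise_smul_le_pointwise_smul_iff.mpr hcs
          have hlt'' : Nat.card ↥((C ⊔ N).subgroupOf L) < n :=
            lt_of_le_of_lt (Subgroup.card_le_card_group _) hlt'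
          obtain ⟨g, hg⟩ := (ih _ hlt'' _ rfl).2 _ _ (isCarter_subgroupOf hC₀ hcs)
            (isCarter_subgroupOf hC' hcs')
          have h1 := congrArg (Subgroup.map (Subgroup.subtype _)) hg
          rw [map_conj_smul, Subgroup.map_subgroupOf_eq_of_le hcs,
            Subgroup.map_subgroupOf_eq_of_le hcs'] at h1
          have h2 : (g : L)⁻¹ * ⟨y, hy⟩ ∈ C₀ := by
            rw [← hC₀.2]
            refine conj_smul_eq_self_iff.mp ?_
            rw [conj_smul_mul, ← h1, Subgroup.subtype_apply, conj_inv_smul_smul]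
          have h3 := mul_mem g.2 (hcs h2)
          rw [mul_inv_cancel_left] at h3
          exact h3
        haveI := hCq.1
        rw [← Subgroup.subgroupOf_eq_top]
        by_contra hne
        obtain ⟨z, hz, hz'⟩ := SetLike.exists_of_lt
          (Group.normalizerCondition_of_isNilpotent _ (lt_top_iff_ne_top.mpr hne))
        rw [← Subgroup.subgroupOf_normalizer_eq hle, Subgroup.mem_subgroupOf] at hz
        obtain ⟨y, hy⟩ := QuotientGroup.mk'_surjective N (z : G ⧸ N)
        have hyL : y ∈ L := by rw [hLdef, Subgroup.mem_comap, hy]; exact z.2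
        have hyn : y ∈ Subgroup.normalizer ((C ⊔ N : Subgroup G) : Set G) := by
          rw [← hcm, ← Subgroup.comap_normalizer_eq_of_surjective _
            (QuotientGroup.mk'_surjective N), Subgroup.mem_comap, hy]
          exact hz
        have := hsn y hyL hyn
        rw [← hcm, Subgroup.mem_comap, hy] at this
        exact hz' (Subgroup.mem_subgroupOf.mpr this)
      refine ⟨C, hCnil, le_antisymm ?_ Subgroup.le_normalizer⟩
      intro x hx
      have hxL : x ∈ L := by
        rw [← hLn]
        refine conj_smul_eq_self_iff.mp ?_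
        have hLeq : L = C ⊔ N := by rw [hLdef, ← hCN, hcm]
        rw [hLeq, Subgroup.smul_sup, conj_smul_eq_self_iff.mpr hx,
          conj_smul_eq_self_iff.mpr (Subgroup.normalizer_eq_top N ▸ Subgroup.mem_top x)]
      have h1 : (⟨x, hxL⟩ : L) ∈ (Subgroup.normalizer (C : Set G)).subgroupOf L := hx
      rw [Subgroup.subgroupOf_normalizer_eq hCL, hC₀eq, hC₀.2] at h1
      exact ⟨_, h1, rfl⟩
  · intro C D hC hD
    obtain ⟨gq, hgq⟩ := hQ.2 _ _ (himage C hC) (himage D hD)
    obtain ⟨g, rfl⟩ := QuotientGroup.mk'_surjective N gq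
    have hC' := isCarter_conj hC g
    suffices ∃ x : G, MulAut.conj x • (MulAut.conj g • C) = D by
      obtain ⟨x, hx⟩ := this
      exact ⟨x * g, by rw [conj_smul_mul]; exact hx⟩
    rw [← map_conj_smul] at hgq
    generalize MulAut.conj g • C = C' at hC' hgq ⊢
    have hsup : C' ⊔ N = D ⊔ N := by rw [← hcm, ← hcm, hgq]
    by_cases hL : D ⊔ N = ⊤
    · have hDnil : Group.IsNilpotent (G ⧸ N) := by
        haveI := (himage D hD).1
        have htop : D.map (QuotientGroup.mk' N) = ⊤ := by
          refine Subgroup.comap_injective (QuotientGroup.mk'_surjective N) ?_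
          rw [hcm, hL, Subgroup.comap_top]
        rw [htop] at this
        exact Group.nilpotent_of_mulEquiv Subgroup.topEquiv
      have key : ∀ E : Subgroup G, IsCarter E → E ⊔ N = ⊤ →
          ∃ H : Subgroup G, Cfsg.IsPiHall {q | q ≠ p} H ∧
            E = Subgroup.normalizer (H : Set G) := by
        intro E hE hEN
        haveI := hE.1
        obtain ⟨K, hK⟩ := Cfsg.Agent.Hall.exists_hall {q | q ≠ p} E
        have hKn := normal_hall_of_nilpotent hK
        haveI := Fact.mk hp
        have h2 : E.index ∣ Nat.card N := by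
          refine Nat.dvd_of_mul_dvd_mul_left (Nat.card_pos (α := E)) ?_
          rw [E.card_mul_index, Subgroup.card_eq_card_quotient_mul_card_subgroup N,
            ← Subgroup.index_eq_card, ← Subgroup.relIndex_top_right, ← hEN,
            Subgroup.relIndex_sup_right]
          exact Nat.mul_dvd_mul_right (Subgroup.relIndex_dvd_card N E) _
        have hH : Cfsg.IsPiHall {q | q ≠ p} (K.map E.subtype) := by
          refine ⟨fun q hq hd => hK.1 q hq ?_, fun q hq hqp hd => ?_⟩
          · rwa [← Subgroup.card_map_of_injective (f := E.subtype) Subtype.coe_injective]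
          · rw [Subgroup.index_map_subtype] at hd
            rcases (hq.dvd_mul).mp hd with h1 | h1
            · exact hK.2 q hq hqp h1
            · obtain ⟨k, hk⟩ := IsPGroup.iff_card.mp hNp
              exact hqp ((Nat.prime_dvd_prime_iff_eq hq hp).mp
                (hq.dvd_of_dvd_pow (hk ▸ (h1.trans h2))))
        refine ⟨K.map E.subtype, hH, ?_⟩
        refine eq_of_le_nilpotent (nilpotent_normalizer_hall hp hNp hH) ?_ hE.2
        refine le_trans (le_of_eq ?_) (Subgroup.le_normalizer_map E.subtype)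
        rw [Subgroup.normalizer_eq_top, ← MonoidHom.range_eq_map, Subgroup.range_subtype]
      obtain ⟨H, hH, hCH⟩ := key C' hC' (hsup.trans hL)
      obtain ⟨K, hK, hDK⟩ := key D hD hL
      obtain ⟨x, hx⟩ := Cfsg.Agent.Hall.exists_conj_eq_of_isPiHall hH hK
      exact ⟨x, by rw [hCH, conj_smul_normalizer, hx, hDK]⟩
    · obtain ⟨x, -, hx⟩ := hsub _ hL C' D hC' hD (hsup ▸ le_sup_left) le_sup_left
      exact ⟨x, hx⟩

end Cfsg.Agent.Solvable.Carter
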