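import Cfsg.Agent.Lib.Hall.Solvable
import Cfsg.Agent.Lib.Characters.Burnside
import Cfsg.Agent.Solvable.Basics
import Cfsg.Agent.S0007

/-!
Hall subgroups by their order, Sylow bases, complement systems and solvability criteria.
-/

set_option autoImplicit false

namespace Cfsg.Agent.Solvable.HallOrder

open scoped Pointwise

variable {G : Type*} [Group G]

theorem isPiHall_of_card [Finite G] {m n : ℕ} (hG : Nat.card G = m * n) (hmn : m.Coprime n)
    {H : Subgroup G} (hH : Nat.card H = m) : Cfsg.IsPiHall {p | p ∣ m} H := by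
  refine ⟨fun p _ hd => hH ▸ hd, fun p hp hpm hd => ?_⟩
  have hidx : H.index = n := by
    have h := H.card_mul_index
    rw [hH, hG] at h
    have hm : 0 < m := hH ▸ Nat.card_pos
    exact Nat.eq_of_mul_eq_mul_left hm h
  exact hp.ne_one (Nat.eq_one_of_dvd_coprimes hmn hpm (hidx ▸ hd))

theorem card_of_isPiHall [Finite G] {m n : ℕ} (hG : Nat.card G = m * n) (hmn : m.Coprime n)
    {H : Subgroup G} (hH : Cfsg.IsPiHall {p | p ∣ m} H) : Nat.card H = m := by
  have hc1 : (Nat.card H).Coprime n := Nat.coprime_of_dvd fun p hp hd hd' =>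
    hp.ne_one (Nat.eq_one_of_dvd_coprimes hmn (hH.1 p hp hd) hd')
  have hc2 : H.index.Coprime m := Nat.coprime_of_dvd fun p hp hd hd' => hH.2 p hp hd' hd
  have h := H.card_mul_index
  rw [hG] at h
  refine Nat.dvd_antisymm (hc1.dvd_of_dvd_mul_right ?_) (hc2.symm.dvd_of_dvd_mul_right ?_)
  · exact h ▸ Dvd.intro _ rfl
  · rw [h]; exact Dvd.intro _ rfl

theorem isPi_of_coprime [Finite G] {m n : ℕ} (hG : Nat.card G = m * n) {K : Subgroup G}
    (hK : (Nat.card K).Coprime n) : Cfsg.Agent.Cores.IsPi {p | p ∣ m} K := fun p hp hd =>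
  (hp.dvd_mul.mp (hG ▸ hd.trans K.card_subgroup_dvd_card : p ∣ m * n)).resolve_right
    fun h => hp.ne_one (Nat.eq_one_of_dvd_coprimes hK hd h)

/-- A solvable group has a complement to every prime. -/
theorem exists_complementSystem [Finite G] [Group.IsSolvable G] (p : ℕ) (hp : p.Prime) :
    ∃ K : Subgroup G, K.index = p ^ (Nat.card G).factorization p := by
  have hG : Nat.card G = (Nat.card G / p ^ (Nat.card G).factorization p) *
      p ^ (Nat.card G).factorization p := (Nat.div_mul_cancel (Nat.ordProj_dvd _ p)).symm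
  have hc : (Nat.card G / p ^ (Nat.card G).factorization p).Coprime
      (p ^ (Nat.card G).factorization p) :=
    (Nat.coprime_ordCompl hp Nat.card_pos.ne').symm.pow_right _
  obtain ⟨K, hK⟩ := Cfsg.Agent.Hall.exists_hall
    {q | q ∣ Nat.card G / p ^ (Nat.card G).factorization p} G
  refine ⟨K, ?_⟩
  have h := K.card_mul_index
  rw [card_of_isPiHall hG hc hK] at h
  exact Nat.eq_of_mul_eq_mul_left
    (Nat.div_pos (Nat.le_of_dvd Nat.card_pos (Nat.ordProj_dvd _ p)) (pow_pos hp.pos _))
    (h.trans hG)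

theorem index_finset_inf [Finite G] {ι : Type*} (s : Finset ι) (K : ι → Subgroup G)
    (hcop : ∀ i ∈ s, ∀ j ∈ s, i ≠ j → (K i).index.Coprime (K j).index) :
    (s.inf K).index = ∏ i ∈ s, (K i).index := by
  classical
  induction s using Finset.induction with
  | empty => simp
  | insert a s ha ih =>
    have hs := ih fun i hi j hj => hcop i (Finset.mem_insert_of_mem hi) j (Finset.mem_insert_of_mem hj)
    rw [Finset.inf_insert, Finset.prod_insert ha,
      (Cfsg.Agent.S0007.result (K a) (s.inf K) ?_).1, hs]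
    rw [hs]
    exact Nat.Coprime.prod_right fun i hi => hcop a (Finset.mem_insert_self a s) i
      (Finset.mem_insert_of_mem hi) (fun h => ha (h ▸ hi))

theorem card_finset_inf_complements [Finite G] (K : Nat.Primes → Subgroup G)
    (hK : ∀ p : Nat.Primes, (K p).index = (p : ℕ) ^ (Nat.card G).factorization p)
    (s : Finset Nat.Primes) :
    Nat.card ↥(s.inf K) * ∏ p ∈ s, (p : ℕ) ^ (Nat.card G).factorization p = Nat.card G := by
  have h := index_finset_inf s K fun i _ j _ hij => by
    rw [hK i, hK j]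
    exact Nat.Coprime.pow _ _
      ((Nat.coprime_primes i.2 j.2).mpr fun h => hij (Subtype.ext h))
  rw [← Finset.prod_congr rfl fun p _ => hK p, ← h, Subgroup.card_mul_index]

/-- The primes dividing the order of `G`. -/
noncomputable def primesOf (G : Type*) [Group G] : Finset Nat.Primes :=
  (Nat.card G).primeFactors.subtype Nat.Prime

theorem mem_primesOf [Finite G] {p : Nat.Primes} : p ∈ primesOf G ↔ (p : ℕ) ∣ Nat.card G := by
  refine (Finset.mem_subtype (p := Nat.Prime)).trans ?_
  rw [Nat.mem_primeFactors]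
  exact ⟨fun h => h.2.1, fun h => ⟨p.2, h, Nat.card_pos.ne'⟩⟩

theorem prod_primesOf (G : Type*) [Group G] [Finite G] :
    ∏ p ∈ primesOf G, (p : ℕ) ^ (Nat.card G).factorization p = Nat.card G := by
  conv_rhs => rw [← Nat.prod_factorization_pow_eq_self (Nat.card_pos (α := G)).ne']
  rw [Finsupp.prod, Nat.support_factorization]
  exact Finset.prod_subtype_of_mem (fun p => p ^ (Nat.card G).factorization p)
    fun p hp => Nat.prime_of_mem_primeFactors hp

/-- The carrier of two permuting subgroups is a subgroup. -/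
theorem exists_subgroup_mul (A B : Subgroup G) (h : (A : Set G) * B = (B : Set G) * A) :
    ∃ C : Subgroup G, (C : Set G) = (A : Set G) * B := by
  refine ⟨{ carrier := (A : Set G) * B, one_mem' := ?_, mul_mem' := ?_, inv_mem' := ?_ }, rfl⟩
  · intro x y hx hy
    have hxy : x * y ∈ (A : Set G) * B * ((A : Set G) * B) := Set.mul_mem_mul hx hy
    rwa [mul_assoc (A : Set G), ← mul_assoc (B : Set G), ← h, mul_assoc (A : Set G),
      coe_mul_coe B, ← mul_assoc, coe_mul_coe A] at hxy
  · exact ⟨1, one_mem A, 1, one_mem B, one_mul 1⟩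
  · intro x hx
    have hx' : x⁻¹ ∈ ((A : Set G) * B)⁻¹ := Set.inv_mem_inv.mpr hx
    rwa [mul_inv_rev, inv_coe_set, inv_coe_set, ← h] at hx'

theorem mul_eq_of_card [Finite G] {A B D : Subgroup G} (hA : A ≤ D) (hB : B ≤ D)
    (hd : Disjoint A B) (hc : Nat.card A * Nat.card B = Nat.card D) :
    (A : Set G) * B = D := by
  refine Set.Subset.antisymm ?_ fun x hx => ?_
  · rintro _ ⟨a, ha, b, hb, rfl⟩
    exact mul_mem (hA ha) (hB hb)
  · have hbij : Function.Bijective
        (fun z : A × B => (⟨z.1 * z.2, mul_mem (hA z.1.2) (hB z.2.2)⟩ : D)) := by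
      rw [Nat.bijective_iff_injective_and_card, Nat.card_prod, hc]
      exact ⟨fun u v huv => Subgroup.mul_injective_of_disjoint hd (congrArg Subtype.val huv), rfl⟩
    obtain ⟨⟨a, b⟩, hab⟩ := hbij.2 ⟨x, hx⟩
    exact ⟨a, a.2, b, b.2, congrArg Subtype.val hab⟩

theorem isSolvable_of_quotient {N : Subgroup G} [N.Normal] (h1 : Group.IsSolvable N)
    (h2 : Group.IsSolvable (G ⧸ N)) : Group.IsSolvable G :=
  (Group.isSolvable_iff_subgroup_quotient N).mpr ⟨h1, h2⟩

/-- Wielandt's solvability criterion. -/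
theorem isSolvable_wielandt :
    ∀ (k : ℕ) {G : Type*} [Group G] [Finite G], Nat.card G = k →
      ∀ (H₁ H₂ H₃ : Subgroup G), Group.IsSolvable H₁ → Group.IsSolvable H₂ → Group.IsSolvable H₃ →
        (∀ g : G, ∃ x ∈ H₁, ∃ y ∈ H₂, g = x * y) → (∀ g : G, ∃ x ∈ H₁, ∃ y ∈ H₃, g = x * y) →
        H₂.index.Coprime H₃.index → Group.IsSolvable G := by
  intro k
  induction k using Nat.strongRecOn with | ind k ih => ?_
  intro G _ _ hk H₁ H₂ H₃ h1 h2 h3 h12 h13 hcop
  by_cases hbot : H₁ = ⊥
  · subst hbot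
    refine Group.isSolvable_of_surjective (f := H₂.subtype) fun g => ?_
    obtain ⟨x, hx, y, hy, rfl⟩ := h12 g
    exact ⟨⟨y, hy⟩, by simp [Subgroup.mem_bot.mp hx]⟩
  have : Nontrivial H₁ := (Subgroup.nontrivial_iff_ne_bot H₁).mpr hbot
  have htop : (⊤ : Subgroup H₁) ≠ ⊥ := top_ne_bot
  obtain ⟨M₁, hM₁n, -, hM₁, hmin⟩ := Cfsg.Agent.Solvable.Basics.exists_minimal_normal htop
  obtain ⟨-, p, hp, hpow⟩ :=
    Cfsg.Agent.Solvable.Basics.minimal_normal_solvable inferInstance hM₁ hmin
  have := Fact.mk hp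
  have hMp : IsPGroup p (M₁.map H₁.subtype) :=
    (Cfsg.Agent.Solvable.Basics.isPGroup_of_forall_pow_eq_one hpow).map _
  -- one of the two indices is prime to `p`
  obtain ⟨X, hXs, hX, hXp⟩ : ∃ X : Subgroup G, Group.IsSolvable X ∧
      (∀ g : G, ∃ x ∈ H₁, ∃ y ∈ X, g = x * y) ∧ ¬ p ∣ X.index := by
    by_cases h : p ∣ H₂.index
    · exact ⟨H₃, h3, h13, fun h' => hp.ne_one (Nat.eq_one_of_dvd_coprimes hcop h h')⟩
    · exact ⟨H₂, h2, h12, h⟩
  obtain ⟨P⟩ : Nonempty (Sylow p X) := inferInstance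
  let P' : Sylow p G := Sylow.ofCard ((P : Subgroup X).map X.subtype) (by
    rw [Subgroup.card_subtype, P.card_eq_multiplicity]
    congr 1
    have h := congrArg (fun z => Nat.factorization z p) X.card_mul_index
    simp only [Nat.factorization_mul Nat.card_pos.ne' Subgroup.index_ne_zero_of_finite,
      Finsupp.add_apply, Nat.factorization_eq_zero_of_not_dvd hXp, add_zero] at h
    exact h)
  obtain ⟨S, hS⟩ := hMp.exists_le_sylow
  obtain ⟨g, hg⟩ := MulAction.exists_smul_eq G S P'
  obtain ⟨x, hx, y, hy, hxy⟩ := hX g⁻¹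
  have hle : M₁.map H₁.subtype ≤ X := by
    rintro m ⟨m', hm', rfl⟩
    have hmem : x * (m' : G) * x⁻¹ ∈ (M₁.map H₁.subtype : Subgroup G) :=
      ⟨⟨x, hx⟩ * m' * ⟨x, hx⟩⁻¹, hM₁n.conj_mem m' hm' ⟨x, hx⟩, rfl⟩
    have h5 : g * (x * (m' : G) * x⁻¹) * g⁻¹ ∈ MulAut.conj g • (S : Subgroup G) :=
      Cfsg.Agent.Coprime.conj_mem_conj_smul (hS hmem)
    have hP'X : (P' : Subgroup G) ≤ X := by
      simp only [P', Sylow.coe_ofCard]; exact Subgroup.map_subtype_le _
    rw [← Sylow.pointwise_smul_def, ← Sylow.smul_def, hg] at h5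
    have h6 := mul_mem (mul_mem hy (hP'X h5)) (inv_mem hy)
    have h7 : y * (g * (x * (m' : G) * x⁻¹) * g⁻¹) * y⁻¹ = m' := by
      rw [show g = y⁻¹ * x⁻¹ by rw [← inv_inv g, hxy, mul_inv_rev]]; group
    rwa [h7] at h6
  let N := Subgroup.normalClosure ((M₁.map H₁.subtype : Subgroup G) : Set G)
  have hNX : N ≤ X := by
    apply (Subgroup.closure_le _).mpr
    intro z hz
    obtain ⟨m, hm, hc⟩ := Group.mem_conjugatesOfSet_iff.mp hz
    obtain ⟨w, rfl⟩ := isConj_iff.mp hc
    obtain ⟨u, hu, v, hv, huv⟩ := hX w⁻¹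
    rw [SetLike.mem_coe, show w = v⁻¹ * u⁻¹ by rw [← inv_inv w, huv, mul_inv_rev]]
    obtain ⟨m', hm', rfl⟩ := hm
    have h5 : u⁻¹ * (m' : G) * u ∈ X := hle ⟨⟨u, hu⟩⁻¹ * m' * ⟨u, hu⟩,
      by simpa using hM₁n.conj_mem m' hm' ⟨u, hu⟩⁻¹, rfl⟩
    simpa [mul_assoc] using mul_mem (mul_mem (inv_mem hv) h5) hv
  have hNbot : N ≠ ⊥ := fun h => hM₁ (by
    rw [← Subgroup.map_eq_bot_iff_of_injective (f := H₁.subtype) _ Subtype.coe_injective,
      ← le_bot_iff, ← h]
    exact Subgroup.le_normalClosure)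
  have hlt : Nat.card (G ⧸ N) < k := by
    rw [← hk, Subgroup.card_eq_card_quotient_mul_card_subgroup N]
    exact lt_mul_of_one_lt_right Nat.card_pos ((Subgroup.one_lt_card_iff_ne_bot _).mpr hNbot)
  refine isSolvable_of_quotient (Cfsg.Agent.Coprime.isSolvable_of_le hNX hXs)
    (ih _ hlt rfl (H₁.map (QuotientGroup.mk' N)) (H₂.map (QuotientGroup.mk' N))
      (H₃.map (QuotientGroup.mk' N)) (Cfsg.Agent.Coprime.isSolvable_map _ h1)
      (Cfsg.Agent.Coprime.isSolvable_map _ h2) (Cfsg.Agent.Coprime.isSolvable_map _ h3) ?_ ?_ ?_)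
  · intro q
    obtain ⟨g', rfl⟩ := QuotientGroup.mk'_surjective N q
    obtain ⟨u, hu, v, hv, rfl⟩ := h12 g'
    exact ⟨_, Subgroup.mem_map_of_mem _ hu, _, Subgroup.mem_map_of_mem _ hv, map_mul _ _ _⟩
  · intro q
    obtain ⟨g', rfl⟩ := QuotientGroup.mk'_surjective N q
    obtain ⟨u, hu, v, hv, rfl⟩ := h13 g'
    exact ⟨_, Subgroup.mem_map_of_mem _ hu, _, Subgroup.mem_map_of_mem _ hv, map_mul _ _ _⟩
  · exact (hcop.coprime_dvd_left (Subgroup.index_map_dvd _ (QuotientGroup.mk'_surjective N))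
      ).coprime_dvd_right (Subgroup.index_map_dvd _ (QuotientGroup.mk'_surjective N))

/-- Hall's converse: complements for all primes imply solvability. -/
theorem isSolvable_of_complements :
    ∀ (k : ℕ) {G : Type*} [Group G] [Finite G], Nat.card G = k →
      (∀ p : ℕ, p.Prime → ∃ H : Subgroup G, H.index = p ^ (Nat.card G).factorization p) →
        Group.IsSolvable G := by
  intro k
  induction k using Nat.strongRecOn with | ind k ih => ?_
  intro G _ _ hk h
  by_cases hc : (Nat.card G).primeFactors.card ≤ 2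
  · obtain ⟨p, q, hp, hq, hne, hsub⟩ : ∃ p q : ℕ, p.Prime ∧ q.Prime ∧ p ≠ q ∧
        (Nat.card G).primeFactors ⊆ {p, q} := by
      rcases Nat.lt_or_ge (Nat.card G).primeFactors.card 2 with hlt | hge
      · rcases Nat.eq_zero_or_pos (Nat.card G).primeFactors.card with h0 | h0
        · exact ⟨2, 3, Nat.prime_two, Nat.prime_three, by decide,
            by rw [Finset.card_eq_zero.mp h0]; exact Finset.empty_subset _⟩
        · obtain ⟨a, ha⟩ := Finset.card_eq_one.mp (by omega : (Nat.card G).primeFactors.card = 1)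
          have hap : a.Prime := Nat.prime_of_mem_primeFactors (ha ▸ Finset.mem_singleton_self a)
          by_cases h2 : a = 2
          · exact ⟨a, 3, hap, Nat.prime_three, by omega, by rw [ha]; simp⟩
          · exact ⟨a, 2, hap, Nat.prime_two, h2, by rw [ha]; simp⟩
      · obtain ⟨a, b, hab, he⟩ :=
          Finset.card_eq_two.mp (le_antisymm hc hge)
        exact ⟨a, b, Nat.prime_of_mem_primeFactors (he ▸ Finset.mem_insert_self a _),
          Nat.prime_of_mem_primeFactors (he ▸ Finset.mem_insert_of_mem (Finset.mem_singleton_self b)),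
          hab, he.le⟩
    refine Cfsg.Agent.Characters.burnside_pa_qb hp hq (a := (Nat.card G).factorization p)
      (b := (Nat.card G).factorization q) ?_
    conv_lhs => rw [← Nat.prod_factorization_pow_eq_self (Nat.card_pos (α := G)).ne']
    rw [Finsupp.prod, Nat.support_factorization, Finset.prod_subset hsub fun x _ hx => by
      rw [← Nat.support_factorization, Finsupp.notMem_support_iff] at hx
      rw [hx, pow_zero], Finset.prod_pair hne]
  · choose K hK using h
    have hcop : ∀ p q (hp : p.Prime) (hq : q.Prime), p ≠ q →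
        (K p hp).index.Coprime (K q hq).index := fun p q hp hq hne => by
      rw [hK p hp, hK q hq]
      exact Nat.Coprime.pow _ _ ((Nat.coprime_primes hp hq).mpr hne)
    have hsolv : ∀ p (hp : p.Prime), p ∣ Nat.card G → Group.IsSolvable (K p hp) := by
      intro p hp hd
      have hlt : Nat.card (K p hp) < k := by
        rw [← hk, ← (K p hp).card_mul_index, hK p hp]
        exact lt_mul_of_one_lt_right Nat.card_pos (Nat.one_lt_pow
          (hp.factorization_pos_of_dvd Nat.card_pos.ne' hd).ne' hp.one_lt)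
      refine ih _ hlt rfl fun q hq => ?_
      by_cases hqp : q = p
      · subst hqp
        refine ⟨⊤, ?_⟩
        have h1 := congrArg (fun z => Nat.factorization z q) (K q hp).card_mul_index
        simp only [Nat.factorization_mul Nat.card_pos.ne' Subgroup.index_ne_zero_of_finite,
          Finsupp.add_apply] at h1
        rw [hK q hp, hp.factorization_pow, Finsupp.single_eq_same] at h1
        rw [Subgroup.index_top, (Nat.add_eq_right.mp h1 : _ = 0), pow_zero]
      · refine ⟨(K q hq ⊓ K p hp).subgroupOf (K p hp), ?_⟩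
        have h1 := Subgroup.relIndex_mul_index (inf_le_right : K q hq ⊓ K p hp ≤ K p hp)
        rw [(Cfsg.Agent.S0007.result _ _ (hcop q p hq hp hqp)).1] at h1
        have h2 := congrArg (fun z => Nat.factorization z q) (K p hp).card_mul_index
        simp only [Nat.factorization_mul Nat.card_pos.ne' Subgroup.index_ne_zero_of_finite,
          Finsupp.add_apply] at h2
        rw [hK p hp, hp.factorization_pow, Finsupp.single_eq_of_ne hqp, add_zero] at h2
        rw [h2, ← hK q hq]
        exact Nat.eq_of_mul_eq_mul_right (Nat.pos_of_ne_zero Subgroup.index_ne_zero_of_finite) h1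
    push Not at hc
    obtain ⟨a, ha, b, hb, c, hc', hab, hac, hbc⟩ := Finset.two_lt_card.mp hc
    rw [Nat.mem_primeFactors] at ha hb hc'
    exact isSolvable_wielandt _ rfl (K a ha.1) (K b hb.1) (K c hc'.1) (hsolv a ha.1 ha.2.1)
      (hsolv b hb.1 hb.2.1) (hsolv c hc'.1 hc'.2.1)
      (Cfsg.Agent.S0007.result _ _ (hcop a b ha.1 hb.1 hab)).2
      (Cfsg.Agent.S0007.result _ _ (hcop a c ha.1 hc'.1 hac)).2 (hcop b c hb.1 hc'.1 hbc)

end Cfsg.Agent.Solvable.HallOrder
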