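import Cfsg.Agent.Lib.PLocal.ThompsonComplement
import Cfsg.Agent.Lib.Hall.MinimalNormal
import Cfsg.Agent.Solvable.HallOrder
import Cfsg.Agent.Solvable.Carter
import Cfsg.Agent.Lib.Cores.Nilpotent
import Cfsg.Agent.Lib.Cores.Fitting

/-!
Thompson's theorem: a finite group with a fixed-point-free automorphism of prime order is nilpotent.
-/

set_option autoImplicit false

namespace Cfsg.Agent.Solvable.Thompson

open Subgroup Cfsg
open scoped Pointwise IsMulCommutative

universe u

variable {G : Type u} [Group G] [Finite G] {p : ℕ} {φ : MulAut G}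

theorem map_eq_of_invariant {H : Subgroup G} (h : ∀ x ∈ H, φ x ∈ H) :
    H.map (φ : G ≃* G).toMonoidHom = H :=
  eq_of_le_of_card_ge (map_le_iff_le_comap.mpr h)
    (card_map_of_injective (f := (φ : G ≃* G).toMonoidHom) φ.injective).ge

theorem invariant_of_map_eq {H : Subgroup G} (h : H.map (φ : G ≃* G).toMonoidHom = H) :
    ∀ x ∈ H, φ x ∈ H := fun x hx => h.le ⟨x, hx, rfl⟩

theorem restrict_exists (hfpf : ∀ x, φ x = x → x = 1) (hφp : φ ^ p = 1) (H : Subgroup G)
    (h : ∀ x ∈ H, φ x ∈ H) :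
    ∃ ψ : MulAut H, (∀ x, ψ x = x → x = 1) ∧ ψ ^ p = 1 := by
  let f : H →* H :=
    { toFun := fun x => ⟨φ x, h x x.2⟩
      map_one' := Subtype.ext (map_one φ)
      map_mul' := fun a b => Subtype.ext (map_mul φ (a : G) b) }
  have hf : Function.Injective f := fun a b hab =>
    Subtype.ext (φ.injective (congrArg Subtype.val hab))
  refine ⟨MulEquiv.ofBijective f (Finite.injective_iff_bijective.mp hf), fun x hx => ?_, ?_⟩
  · exact Subtype.ext (hfpf x (congrArg Subtype.val hx))
  · refine MulEquiv.ext fun x => Subtype.ext ?_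
    have hn : ∀ n : ℕ, (((MulEquiv.ofBijective f (Finite.injective_iff_bijective.mp hf) : MulAut H)
        ^ n) x : G) = (φ ^ n) (x : G) := by
      intro n
      induction n with
      | zero => simp
      | succ n ih => rw [pow_succ', pow_succ', MulAut.mul_apply, MulAut.mul_apply, ← ih]; rfl
    rw [hn p, hφp]
    simp

theorem zpowers_isPGroup [hp : Fact p.Prime] (hφp : φ ^ p = 1) :
    IsPGroup p (zpowers φ) := fun x => ⟨1, Subtype.ext (by
  obtain ⟨i, hi⟩ := mem_zpowers_iff.mp x.2
  rw [Subgroup.coe_pow, ← hi, pow_one, ← zpow_natCast, ← zpow_mul, mul_comm, zpow_mul,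
    zpow_natCast, hφp, one_zpow, Subgroup.coe_one])⟩

theorem not_dvd_card [hp : Fact p.Prime] (hfpf : ∀ x, φ x = x → x = 1) (hφp : φ ^ p = 1) :
    ¬ p ∣ Nat.card G := by
  intro hd
  obtain ⟨x, hx, hx1⟩ := (zpowers_isPGroup hφp).exists_fixed_point_of_prime_dvd_card_of_fixed_point
    G hd (a := (1 : G)) (fun a => map_one (a : MulAut G))
  exact hx1 (hfpf x (hx ⟨φ, mem_zpowers φ⟩)).symm

theorem exists_invariant_sylow [hp : Fact p.Prime] (hfpf : ∀ x, φ x = x → x = 1)
    (hφp : φ ^ p = 1) (q : ℕ) [Fact q.Prime] :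
    ∃ P : Sylow q G, ∀ x ∈ (P : Subgroup G), φ x ∈ (P : Subgroup G) := by
  obtain ⟨P₀⟩ : Nonempty (Sylow q G) := inferInstance
  obtain ⟨P, hP⟩ := (zpowers_isPGroup hφp).nonempty_fixed_point_of_prime_not_dvd_card (Sylow q G)
    fun hd => not_dvd_card hfpf hφp
      (hd.trans (P₀.card_dvd_index.trans (P₀ : Subgroup G).index_dvd_card))
  refine ⟨P, fun x hx => ?_⟩
  have h : φ • P = P := hP ⟨φ, mem_zpowers φ⟩
  rw [← h]
  exact Subgroup.smul_mem_pointwise_smul x φ _ hx

theorem quotient_exists [hp : Fact p.Prime] (hfpf : ∀ x, φ x = x → x = 1) (hφp : φ ^ p = 1)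
    (N : Subgroup G) [N.Normal] (h : ∀ x ∈ N, φ x ∈ N) :
    ∃ ψ : MulAut (G ⧸ N), (∀ x, ψ x = x → x = 1) ∧ ψ ^ p = 1 := by
  let ψ : MulAut (G ⧸ N) := QuotientGroup.congr N N φ (map_eq_of_invariant h)
  have hψ : ∀ g : G, ψ (g : G ⧸ N) = (φ g : G ⧸ N) := fun g => rfl
  refine ⟨ψ, fun x hx => ?_, ?_⟩
  · obtain ⟨g, rfl⟩ := QuotientGroup.mk_surjective x
    rw [hψ, QuotientGroup.eq] at hx
    let Q : Set G := {y | g⁻¹ * y ∈ N}
    have hQ : ∀ a ∈ zpowers φ, ∀ y ∈ Q, a y ∈ Q := by
      have h1 : ∀ y ∈ Q, φ y ∈ Q := by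
        intro y hy
        have h2 : g⁻¹ * φ g ∈ N := by
          simpa [mul_inv_rev] using inv_mem hx
        have h3 := mul_mem h2 (h _ hy)
        rw [map_mul, map_inv, mul_assoc, mul_inv_cancel_left] at h3
        exact h3
      intro a ha
      obtain ⟨i, rfl⟩ := (IsOfFinOrder.mem_powers_iff_mem_zpowers
        (isOfFinOrder_iff_pow_eq_one.mpr ⟨p, hp.out.pos, hφp⟩)).mpr ha
      dsimp only
      clear ha
      induction i with
      | zero => exact fun y hy => by simpa using hy
      | succ i ih => exact fun y hy => by rw [pow_succ', MulAut.mul_apply]; exact h1 _ (ih y hy)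
    letI : MulAction (zpowers φ) Q :=
      { smul := fun a y => ⟨(a : MulAut G) y, hQ a a.2 y y.2⟩
        one_smul := fun y => Subtype.ext rfl
        mul_smul := fun a b y => Subtype.ext rfl }
    have hcard : Nat.card Q = Nat.card N := Nat.card_congr
      { toFun := fun y => ⟨g⁻¹ * y, y.2⟩
        invFun := fun n => ⟨g * n, by change g⁻¹ * (g * (n : G)) ∈ N; rw [inv_mul_cancel_left]; exact n.2⟩
        left_inv := fun y => Subtype.ext (mul_inv_cancel_left g y)
        right_inv := fun n => Subtype.ext (inv_mul_cancel_left g n) }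
    obtain ⟨y, hy⟩ := (zpowers_isPGroup hφp).nonempty_fixed_point_of_prime_not_dvd_card Q
      (hcard ▸ fun hd => not_dvd_card hfpf hφp (hd.trans (card_subgroup_dvd_card N)))
    have hy1 : (y : G) = 1 := hfpf _ (congrArg Subtype.val (hy ⟨φ, mem_zpowers φ⟩))
    have hgy : g⁻¹ * (y : G) ∈ N := y.2
    rw [hy1, mul_one] at hgy
    exact (QuotientGroup.eq_one_iff g).mpr (inv_mem_iff.mp hgy)
  · refine MulEquiv.ext fun x => ?_
    obtain ⟨g, rfl⟩ := QuotientGroup.mk_surjective x
    have hn : ∀ n : ℕ, (ψ ^ n) (g : G ⧸ N) = ((φ ^ n) g : G ⧸ N) := by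
      intro n
      induction n with
      | zero => simp
      | succ n ih => rw [pow_succ', pow_succ', MulAut.mul_apply, ih, hψ, MulAut.mul_apply]
    rw [hn, hφp]
    simp

/-- The norm argument: invariant subgroups of order prime to an invariant abelian normal
subgroup centralize it. -/
theorem le_centralizer [hp : Fact p.Prime] (hfpf : ∀ x, φ x = x → x = 1) (hφp : φ ^ p = 1)
    {V R : Subgroup G} [V.Normal] [IsMulCommutative V] (hV : ∀ x ∈ V, φ x ∈ V)
    (hR : ∀ x ∈ R, φ x ∈ R) (hcop : (Nat.card R).Coprime (Nat.card V)) :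
    R ≤ centralizer (V : Set G) := by
  classical
  have : Fintype R := Fintype.ofFinite R
  have hpowV : ∀ i : ℕ, ∀ x ∈ V, (φ ^ i) x ∈ V := by
    intro i
    induction i with
    | zero => exact fun x hx => by simpa using hx
    | succ i ih => exact fun x hx => by rw [pow_succ', MulAut.mul_apply]; exact hV _ (ih x hx)
  have hpowR : ∀ i : ℕ, ∀ x ∈ R, (φ ^ i) x ∈ R := by
    intro i
    induction i with
    | zero => exact fun x hx => by simpa using hx
    | succ i ih => exact fun x hx => by rw [pow_succ', MulAut.mul_apply]; exact hR _ (ih x hx)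
  let f : ℕ → V →* V := fun i =>
    { toFun := fun v => ⟨(φ ^ i) v, hpowV i v v.2⟩
      map_one' := Subtype.ext (map_one _)
      map_mul' := fun a b => Subtype.ext (map_mul _ _ _) }
  have hnorm : ∀ w : V, ∏ i ∈ Finset.range p, f i w = 1 := by
    intro w
    refine Subtype.ext (hfpf _ ?_)
    have h1 : f 1 (∏ i ∈ Finset.range p, f i w) = ∏ i ∈ Finset.range p, f (i + 1) w := by
      rw [map_prod]
      exact Finset.prod_congr rfl fun i _ => Subtype.ext
        (by change (φ ^ 1) ((φ ^ i) (w : G)) = (φ ^ (i + 1)) (w : G)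
            rw [← MulAut.mul_apply, ← pow_add, Nat.add_comm 1 i])
    have h2 : ∏ i ∈ Finset.range p, f (i + 1) w = ∏ i ∈ Finset.range p, f i w := by
      have h3 := Finset.prod_range_succ' (fun i => f i w) p
      rw [Finset.prod_range_succ, show f p w = f 0 w from Subtype.ext (by
        change (φ ^ p) (w : G) = (φ ^ 0) (w : G); rw [hφp, pow_zero])] at h3
      exact (mul_right_cancel h3).symm
    exact congrArg Subtype.val (h1.trans h2)
  let c : G → V →* V := fun g => (MulAut.conjNormal g : MulAut V).toMonoidHom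
  have hc : ∀ (g : G) (v : V), (c g v : G) = g * v * g⁻¹ := fun g v => MulAut.conjNormal_apply g v
  intro r hr v hv
  let v' : V := ⟨v, hv⟩
  let N : V := ∏ s : R, c s v'
  have hterm : ∀ s : R, ∏ i ∈ Finset.range p, c ((s : G)⁻¹ * (φ ^ i) s) (f i v') = 1 := by
    intro s
    have h1 : ∀ i, c ((s : G)⁻¹ * (φ ^ i) s) (f i v') = c (s : G)⁻¹ (f i (c s v')) := by
      intro i
      refine Subtype.ext ?_
      rw [hc, hc]
      change (s : G)⁻¹ * (φ ^ i) s * (φ ^ i) v * ((s : G)⁻¹ * (φ ^ i) s)⁻¹ =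
        (s : G)⁻¹ * (φ ^ i) (c s v' : G) * (s : G)⁻¹⁻¹
      rw [hc, map_mul, map_mul, map_inv, show (v' : G) = v from rfl]
      group
    rw [Finset.prod_congr rfl fun i _ => h1 i, ← map_prod, hnorm, map_one]
  have hsum : ∀ i ∈ Finset.range p, i ≠ 0 →
      ∏ s : R, c ((s : G)⁻¹ * (φ ^ i) s) (f i v') = ∏ s : R, c s (f i v') := by
    intro i hi hi0
    have hinj : Function.Injective
        (fun s : R => (⟨(s : G)⁻¹ * (φ ^ i) s, mul_mem (inv_mem s.2) (hpowR i s s.2)⟩ : R)) := by
      intro a b hab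
      have h1 : (a : G)⁻¹ * (φ ^ i) a = (b : G)⁻¹ * (φ ^ i) b := congrArg Subtype.val hab
      have h2 : (φ ^ i) ((a : G) * (b : G)⁻¹) = (a : G) * (b : G)⁻¹ := by
        rw [map_mul, map_inv, show (φ ^ i) (a : G) = (a : G) * ((b : G)⁻¹ * (φ ^ i) b) by
          rw [← h1, mul_inv_cancel_left]]
        group
      have hcp : Nat.Coprime i p := ((Nat.Prime.coprime_iff_not_dvd hp.out).mpr fun hd =>
        absurd (Nat.le_of_dvd (Nat.pos_of_ne_zero hi0) hd)
          (not_le.mpr (Finset.mem_range.mp hi))).symm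
      obtain ⟨m, hm⟩ := exists_pow_eq_self_of_coprime (x := φ) (n := i)
        (hcp.coprime_dvd_right (orderOf_dvd_of_pow_eq_one hφp))
      have h3 : ∀ n : ℕ, ((φ ^ i) ^ n) ((a : G) * (b : G)⁻¹) = (a : G) * (b : G)⁻¹ := by
        intro n
        induction n with
        | zero => simp
        | succ n ih => rw [pow_succ, MulAut.mul_apply, h2, ih]
      have h4 := h3 m
      rw [hm] at h4
      exact Subtype.ext (mul_inv_eq_one.mp (hfpf _ h4))
    exact Fintype.prod_bijective _ (Finite.injective_iff_bijective.mp hinj) _ _ fun s => rfl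
  have hfix : ∀ (w : V) (t : R), c t (∏ s : R, c s w) = ∏ s : R, c s w := by
    intro w t
    rw [map_prod]
    refine Fintype.prod_bijective (fun s => t * s) (Group.mulLeft_bijective t) _ _ fun s =>
      Subtype.ext ?_
    simp only [hc, Subgroup.coe_mul]
    group
  have hall : ∏ i ∈ Finset.range p, ∏ s : R, c ((s : G)⁻¹ * (φ ^ i) s) (f i v') = 1 := by
    rw [Finset.prod_comm]
    exact Finset.prod_eq_one fun s _ => hterm s
  obtain ⟨p', hp'⟩ : ∃ p', p = p' + 1 := ⟨p - 1, (Nat.sub_add_cancel hp.out.one_le).symm⟩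
  rw [hp', Finset.prod_range_succ'] at hall
  have h0 : ∏ s : R, c ((s : G)⁻¹ * (φ ^ 0) s) (f 0 v') = v' ^ Fintype.card R := by
    rw [← Finset.card_univ, ← Finset.prod_const]
    refine Finset.prod_congr rfl fun s _ => Subtype.ext ?_
    rw [hc]
    simp [f, v']
  rw [h0, mul_eq_one_iff_inv_eq] at hall
  have hfixv : c r (v' ^ Fintype.card R) = v' ^ Fintype.card R := by
    rw [← hall, map_inv, inv_inj, map_prod]
    refine Finset.prod_congr rfl fun i hi => ?_
    rw [hsum (i + 1) (Finset.mem_range.mpr (by have := Finset.mem_range.mp hi; omega)) i.succ_ne_zero]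
    exact hfix _ ⟨r, hr⟩
  have hcopv : (Fintype.card R).Coprime (orderOf v') := by
    rw [← Nat.card_eq_fintype_card]
    exact hcop.coprime_dvd_right (orderOf_dvd_natCard v')
  obtain ⟨m, hm⟩ := exists_pow_eq_self_of_coprime hcopv
  have hv' : c r v' = v' := by rw [← hm, map_pow, hfixv]
  have h5 := congrArg Subtype.val hv'
  rw [hc] at h5
  exact (mul_inv_eq_iff_eq_mul.mp h5).symm

theorem hasNormalPComplement_of_nilpotent {H : Type u} [Group H] [Finite H] [Group.IsNilpotent H]
    {q : ℕ} [hq : Fact q.Prime] : HasNormalPComplement q H := by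
  obtain ⟨K, hK⟩ := Cfsg.Agent.Hall.exists_hall {r | r ≠ q} H
  refine Cfsg.Agent.Transfer.NormalPComplement.hasNormalPComplement_iff_exists.mpr
    ⟨K, Cfsg.Agent.Solvable.Carter.normal_hall_of_nilpotent hK, ?_, _,
      Nat.eq_prime_pow_of_unique_prime_dvd index_ne_zero_of_finite fun {d} hd hdd =>
        by_contra fun hne => hK.2 d hd hne hdd⟩
  exact ((Nat.Prime.coprime_iff_not_dvd hq.out).mpr fun hd => hK.1 q hq.out hd rfl).symm

theorem isNilpotent_aux [hp : Fact p.Prime] : ∀ (n : ℕ) (G : Type u) [Group G] [Finite G]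
    (φ : MulAut G), Nat.card G = n → (∀ x, φ x = x → x = 1) → φ ^ p = 1 →
      Group.IsNilpotent G := by
  intro n
  induction n using Nat.strongRecOn with
  | ind n ih =>
  intro G _ _ φ hn hfpf hφp
  rcases subsingleton_or_nontrivial G with hs | hnt
  · infer_instance
  have hsub : ∀ H : Subgroup G, H ≠ ⊤ → (∀ x ∈ H, φ x ∈ H) → Group.IsNilpotent H := fun H hH h =>
    let ⟨ψ, h1, h2⟩ := restrict_exists hfpf hφp H h
    ih _ (hn ▸ lt_of_le_of_ne (card_le_card_group H) fun he => hH (eq_top_of_card_eq H he)) H ψ rfl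
      h1 h2
  have hquo : ∀ (N : Subgroup G) [N.Normal], N ≠ ⊥ → (∀ x ∈ N, φ x ∈ N) →
      Group.IsNilpotent (G ⧸ N) := fun N _ hN h =>
    let ⟨ψ, h1, h2⟩ := quotient_exists hfpf hφp N h
    ih _ (by
      rw [← hn, card_eq_card_quotient_mul_card_subgroup N]
      exact lt_mul_of_one_lt_right Nat.card_pos ((one_lt_card_iff_ne_bot _).mpr hN)) (G ⧸ N) ψ rfl
      h1 h2
  have hchar : ∀ (H : Subgroup G) [H.Characteristic], ∀ x ∈ H, φ x ∈ H := fun H hH =>
    invariant_of_map_eq (characteristic_iff_map_eq.mp hH φ)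
  by_cases hsolv : Group.IsSolvable G
  · -- solvable case
    obtain ⟨M, hMn, -, hM1, hMmin⟩ :=
      Cfsg.Agent.Hall.exists_minimal_normal (⊤ : Subgroup G) top_ne_bot
    obtain ⟨q, hq, -, hMp, -⟩ := Cfsg.Agent.Hall.minimal_normal_isElementaryAbelian hM1 hMmin
    haveI := Fact.mk hq
    set U := pCore q G with hU
    have hU1 : U ≠ ⊥ := fun h => hM1 (le_bot_iff.mp (h ▸ Cfsg.Agent.PLocal.Cores.le_pCore hMp))
    have hUp : IsPGroup q U := Cfsg.Agent.PLocal.Cores.isPGroup_pCore
    have hUinv : ∀ x ∈ U, φ x ∈ U :=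
      invariant_of_map_eq (Cfsg.Agent.PLocal.Cores.map_pCore_equiv (φ : G ≃* G))
    set V := Cfsg.Agent.PLocal.ThompsonComplement.Z U with hV
    have hVinv : ∀ x ∈ V, φ x ∈ V := invariant_of_map_eq (by
      rw [Cfsg.Agent.PLocal.ThompsonComplement.map_Z (φ : G ≃* G).injective.injOn,
        map_eq_of_invariant hUinv])
    haveI : V.Normal := normalizer_eq_top_iff.mp (top_le_iff.mp
      ((normalizer_eq_top U).ge.trans (Cfsg.Agent.PLocal.ThompsonComplement.normalizer_le_Z U)))
    haveI : IsMulCommutative V := le_centralizer_iff_isMulCommutative.mp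
      (inf_le_right.trans (centralizer_le inf_le_left))
    obtain ⟨P, hPinv⟩ := exists_invariant_sylow hfpf hφp q
    have hVP : V ≤ (P : Subgroup G) :=
      inf_le_left.trans (Cfsg.Agent.PLocal.Cores.pCore_le_sylow P)
    -- a central element
    have hVne : V.subgroupOf P ≠ ⊥ := fun h =>
      Cfsg.Agent.PLocal.ThompsonComplement.Z_ne_bot hUp hU1
        (show V = ⊥ by rw [← map_subgroupOf_eq_of_le hVP, h, Subgroup.map_bot])
    haveI := P.2.isNilpotent
    obtain ⟨w, hw, hw1⟩ := (bot_or_exists_ne_one _).resolve_left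
      (Cfsg.Agent.Cores.inf_center_ne_bot (N := V.subgroupOf P) hVne)
    obtain ⟨hwV, hwC⟩ := mem_inf.mp hw
    rw [mem_subgroupOf] at hwV
    have hcentZ : centralizer ({(w : G)} : Set G) = ⊤ := by
      refine Cfsg.Agent.Cores.eq_top_of_sylow_le fun r hr _ => ?_
      haveI := Fact.mk hr
      by_cases hrq : r = q
      · subst hrq
        refine ⟨P, fun y hy => ?_⟩
        rw [mem_centralizer_singleton_iff]
        exact congrArg Subtype.val (mem_center_iff.mp hwC ⟨y, hy⟩)
      · obtain ⟨R, hRinv⟩ := exists_invariant_sylow hfpf hφp r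
        refine ⟨R, fun y hy => ?_⟩
        rw [mem_centralizer_singleton_iff]
        refine (le_centralizer hfpf hφp hVinv hRinv ?_ hy (w : G) hwV).symm
        obtain ⟨a, ha⟩ := R.2.exists_card_eq
        obtain ⟨b, hb⟩ := ((hUp.to_le inf_le_left : IsPGroup q V)).exists_card_eq
        rw [ha, hb]
        exact Nat.Coprime.pow _ _ ((Nat.coprime_primes hr hq).mpr hrq)
    have hwcent : (w : G) ∈ center G := mem_center_iff.mpr fun g =>
      mem_centralizer_singleton_iff.mp (hcentZ ▸ mem_top g)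
    haveI := hquo (center G) (fun h => hw1 (Subtype.ext (mem_bot.mp (h ▸ hwcent)))) (hchar _)
    exact Subgroup.isNilpotent_of_ker_le_center (QuotientGroup.mk' (center G))
      (QuotientGroup.ker_mk' _).le
  · -- no nonsolvable counterexample
    exfalso
    have key : ∀ (M : Subgroup G) [M.Normal], (∀ x ∈ M, φ x ∈ M) → M ≠ ⊥ → M ≠ ⊤ → False := by
      intro M _ hinv hbot htop
      haveI := hsub M htop hinv
      haveI := hquo M hbot hinv
      exact hsolv (Cfsg.Agent.Solvable.HallOrder.isSolvable_of_quotient (N := M)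
        inferInstance inferInstance)
    have hnp : ∀ q : ℕ, q.Prime → ¬ IsPGroup q G := fun q hq h => hsolv (by
      haveI := Fact.mk hq
      haveI := h.isNilpotent
      infer_instance)
    obtain ⟨q, hq, hqd, hq2⟩ : ∃ q : ℕ, q.Prime ∧ q ∣ Nat.card G ∧ q ≠ 2 := by
      by_contra hcon
      push Not at hcon
      refine hnp 2 Nat.prime_two (IsPGroup.of_card (n := (Nat.card G).primeFactorsList.length) ?_)
      exact Nat.eq_prime_pow_of_unique_prime_dvd Nat.card_pos.ne' (fun {d} hd hdd => hcon d hd hdd)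
    haveI := Fact.mk hq
    obtain ⟨P, hPinv⟩ := exists_invariant_sylow hfpf hφp q
    have hP1 : (P : Subgroup G) ≠ ⊥ := fun h => P.not_dvd_index (by rw [h, index_bot]; exact hqd)
    have hPtop : (P : Subgroup G) ≠ ⊤ := fun h => hnp q hq (by
      have hP := P.2
      rw [h] at hP
      exact hP.of_equiv topEquiv)
    have hPe := map_eq_of_invariant hPinv
    set J := thompsonSubgroupOf q (P : Subgroup G) with hJ
    set Z := Cfsg.Agent.PLocal.ThompsonComplement.Z (P : Subgroup G) with hZ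
    have hJe : J.map (φ : G ≃* G).toMonoidHom = J := by
      rw [hJ, Cfsg.Agent.PLocal.ThompsonComplement.map_J (φ : G ≃* G).injective.injOn, hPe]
    have hZe : Z.map (φ : G ≃* G).toMonoidHom = Z := by
      rw [hZ, Cfsg.Agent.PLocal.ThompsonComplement.map_Z (φ : G ≃* G).injective.injOn, hPe]
    have hN1 : normalizer (J : Set G) ≠ ⊤ := fun h => by
      haveI : J.Normal := normalizer_eq_top_iff.mp h
      exact key J (invariant_of_map_eq hJe)
        (Cfsg.Agent.PLocal.ThompsonComplement.J_ne_bot P.2 hP1)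
        (fun h2 => hPtop (top_le_iff.mp (h2 ▸ Cfsg.Agent.PLocal.ThompsonComplement.J_le _)))
    have hN2 : centralizer (Z : Set G) ≠ ⊤ := fun h => by
      haveI : Z.Normal := normalizer_eq_top_iff.mp
        (top_le_iff.mp (h.ge.trans (centralizer_le_normalizer _)))
      exact key Z (invariant_of_map_eq hZe)
        (Cfsg.Agent.PLocal.ThompsonComplement.Z_ne_bot P.2 hP1)
        (fun h2 => hPtop (top_le_iff.mp (h2 ▸ inf_le_left)))
    have hi1 : ∀ x ∈ normalizer (J : Set G), φ x ∈ normalizer (J : Set G) :=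
      invariant_of_map_eq (by rw [map_equiv_normalizer_eq, hJe])
    have hi2 : ∀ x ∈ centralizer (Z : Set G), φ x ∈ centralizer (Z : Set G) :=
      invariant_of_map_eq (by rw [← Cfsg.Agent.PLocal.ThompsonComplement.centralizer_map_equiv, hZe])
    have hnil : ∀ H : Subgroup G, Group.IsNilpotent H → HasNormalPComplement q H := by
      intro H hH
      haveI := hH
      exact hasNormalPComplement_of_nilpotent
    have hG := Cfsg.Agent.PLocal.ThompsonComplement.hasNormalPComplement_of_thompson hq2 P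
      (hnil _ (hsub _ hN1 hi1)) (hnil _ (hsub _ hN2 hi2))
    have hOinv : ∀ x ∈ pPrimeCore q G, φ x ∈ pPrimeCore q G :=
      invariant_of_map_eq (Cfsg.Agent.PLocal.Cores.map_pPrimeCore_equiv (φ : G ≃* G))
    obtain ⟨k, hk⟩ := Cfsg.Agent.Transfer.NormalPComplement.hasNormalPComplement_iff_pPrimeCore.mp hG
    haveI : (pPrimeCore q G).Normal := by
      haveI := Cfsg.Agent.PLocal.Cores.pPrimeCore_characteristic (p := q) (G := G)
      infer_instance
    refine key _ hOinv (fun h => hnp q hq (IsPGroup.of_card (n := k) ?_)) fun h => ?_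
    · rw [← hk, h, index_bot]
    · have hc := Cfsg.Agent.PLocal.Cores.coprime_card_pPrimeCore (p := q) (G := G)
      rw [h, card_top] at hc
      exact hq.ne_one (Nat.eq_one_of_dvd_coprimes hc hqd dvd_rfl)

theorem isNilpotent_of_fixedPointFree {G : Type u} [Group G] [Finite G] (φ : MulAut G) {p : ℕ}
    (hp : p.Prime) (hfpf : ∀ x, φ x = x → x = 1) (hφp : φ ^ p = 1) : Group.IsNilpotent G :=
  haveI := Fact.mk hp
  isNilpotent_aux _ G φ rfl hfpf hφp

end Cfsg.Agent.Solvable.Thompson
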