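import Cfsg.Agent.Lib.Components.Fitting
import Cfsg.Agent.Lib.Coprime.Basic

/-!
The Fitting subgroup of a solvable group contains its centralizer.
-/

set_option autoImplicit false

namespace Cfsg.Agent.Solvable.Fitting

variable {G : Type*} [Group G]

/-- In a solvable group the Fitting subgroup contains its centralizer. -/
theorem centralizer_fitting_le [Finite G] [Group.IsSolvable G] :
    Subgroup.centralizer (Cfsg.fittingSubgroup G : Set G) ≤ Cfsg.fittingSubgroup G := by
  by_contra hC
  obtain ⟨D, hDC, ⟨hDn, hDF⟩, hmin⟩ := Set.Finite.exists_le_minimal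
    (Set.toFinite {D : Subgroup G | D.Normal ∧ ¬ D ≤ Cfsg.fittingSubgroup G})
    (a := Subgroup.centralizer (Cfsg.fittingSubgroup G : Set G)) ⟨inferInstance, hC⟩
  have hne : D ≠ ⊥ := fun h => hDF (h ▸ bot_le)
  have hlt : ⁅D, D⁆ < D :=
    Cfsg.Agent.Coprime.commutator_lt_of_isSolvable inferInstance hne
  have hle : ⁅D, D⁆ ≤ Cfsg.fittingSubgroup G := by
    by_contra h
    exact hlt.not_ge (hmin ⟨inferInstance, h⟩ hlt.le)
  refine hDF (Cfsg.Agent.Components.Fitting.le_fitting ?_)
  refine (Subgroup.isNilpotent_iff_lowerCentralSeries D).mpr ⟨2, ?_⟩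
  rw [Subgroup.lowerCentralSeries_succ, Subgroup.lowerCentralSeries_succ,
    Subgroup.lowerCentralSeries_zero, Subgroup.commutator_eq_bot_iff_le_centralizer]
  exact hle.trans (Subgroup.le_centralizer_iff.mp hDC)

/-- If `O_{p'}(G) = 1` the Fitting subgroup is `O_p(G)`. -/
theorem fitting_eq_pCore [Finite G] (p : ℕ) [Fact p.Prime] (h : Cfsg.pPrimeCore p G = ⊥) :
    Cfsg.fittingSubgroup G = Cfsg.pCore p G := by
  refine le_antisymm ?_ (Cfsg.Agent.Components.Fitting.pCore_le_fitting p)
  rw [Cfsg.Agent.Components.Fitting.fitting_eq_coreJoin]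
  exact (Cfsg.Agent.Components.Fitting.coreJoin_le_sup p).trans (by rw [h, sup_bot_eq])

/-- In a solvable group with `O_{p'}(G) = 1` the subgroup `O_p(G)` contains its centralizer. -/
theorem centralizer_pCore_le [Finite G] [Group.IsSolvable G] (p : ℕ) [Fact p.Prime]
    (h : Cfsg.pPrimeCore p G = ⊥) :
    Subgroup.centralizer (Cfsg.pCore p G : Set G) ≤ Cfsg.pCore p G := by
  rw [← fitting_eq_pCore p h]
  exact centralizer_fitting_le

end Cfsg.Agent.Solvable.Fitting
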