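import Cfsg.Agent.Lib.Characters.Frobenius
import Cfsg.Agent.Lib.Coprime.FixedPointFree
import Cfsg.Agent.Lib.Cores.Basic
import Mathlib.GroupTheory.SpecificGroups.ZGroup

/-!
Frobenius groups: kernels, conjugacy of complements, centres of complements.
-/

set_option autoImplicit false

namespace Cfsg.Agent.Solvable.Frobenius

open scoped Pointwise
open Cfsg.Agent.Coprime

universe u

variable {G : Type u} [Group G]

/-- `IsFrobeniusComplement` in terms of a normal complement acted on without fixed points. -/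
theorem isFrobeniusComplement_iff_fpf [Finite G] (K H : Subgroup G) [K.Normal]
    (hc : Subgroup.IsComplement' K H) (hK : K ≠ ⊥) (hH : H ≠ ⊥) :
    Cfsg.IsFrobeniusComplement H ↔ ∀ h ∈ H, h ≠ 1 → K ⊓ Subgroup.centralizer {h} = ⊥ := by
  constructor
  · intro hF h hh h1
    refine (Subgroup.eq_bot_iff_forall _).mpr fun k hk => ?_
    obtain ⟨hkK, hkc⟩ := Subgroup.mem_inf.mp hk
    have hkH := Cfsg.Agent.Characters.mem_of_frobenius_meet hF hh (g := k) (by
      rwa [mul_assoc, ← Subgroup.mem_centralizer_singleton_iff.mp hkc, inv_mul_cancel_left]) h1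
    exact Subgroup.disjoint_def.mp hc.disjoint hkK hkH
  · intro hfpf
    refine ⟨hH, fun htop => hK ?_, fun g hg => ?_⟩
    · rw [htop, Subgroup.isComplement'_top_right] at hc; exact hc
    refine (Subgroup.eq_bot_iff_forall _).mpr fun x hx => ?_
    obtain ⟨hxH, hxg⟩ := Subgroup.mem_inf.mp hx
    have hgKH : g ∈ K ⊔ H := by rw [hc.sup_eq_top]; exact Subgroup.mem_top g
    obtain ⟨k, hk, h, hh, rfl⟩ :=
      (mem_sup_of_le_normalizer Subgroup.le_normalizer_of_normal).mp hgKH
    rw [mem_conj_smul] at hxg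
    have hy : k⁻¹ * x * k ∈ H := by
      simpa [mul_assoc] using mul_mem (mul_mem hh hxg) (inv_mem hh)
    have h1 : x⁻¹ * (k⁻¹ * x * k) = 1 := by
      refine Subgroup.disjoint_def.mp hc.disjoint ?_ (mul_mem (inv_mem hxH) hy)
      have h2 := mul_mem (Subgroup.Normal.conj_mem inferInstance k⁻¹ (inv_mem hk) x⁻¹) hk
      simpa [mul_assoc] using h2
    by_contra hx1
    refine hg (mul_mem ?_ hh)
    have hcomm : k * x = x * k := by
      rw [inv_mul_eq_one] at h1
      conv_lhs => rw [h1]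
      group
    rw [fpf_eq_one hfpf hxH hx1 hk hcomm]
    exact one_mem H

theorem fpf_of_kernel [Finite G] {H N : Subgroup G} [N.Normal]
    (hH : Cfsg.IsFrobeniusComplement H) (hc : Subgroup.IsComplement' N H) :
    ∀ h ∈ H, h ≠ 1 → N ⊓ Subgroup.centralizer {h} = ⊥ :=
  (isFrobeniusComplement_iff_fpf N H hc (fun h => hH.2.1 (by
    rw [h, Subgroup.isComplement'_bot_left] at hc; exact hc)) hH.1).mp hH

theorem kernel_ne_bot [Finite G] {H N : Subgroup G}
    (hH : Cfsg.IsFrobeniusComplement H) (hc : Subgroup.IsComplement' N H) : N ≠ ⊥ := fun h =>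
  hH.2.1 (by rw [h, Subgroup.isComplement'_bot_left] at hc; exact hc)

theorem isFrobeniusComplement_conj {H : Subgroup G} (hH : Cfsg.IsFrobeniusComplement H) (g : G) :
    Cfsg.IsFrobeniusComplement (MulAut.conj g • H) := by
  refine ⟨fun h => hH.1 ?_, fun h => hH.2.1 ?_, fun x hx => ?_⟩
  · rw [← conj_inv_smul_smul g H, h, Subgroup.smul_bot]
  · rw [← conj_inv_smul_smul g H, h, eq_top_iff]
    exact fun y _ => by rw [mem_conj_smul]; exact Subgroup.mem_top _
  · rw [mem_conj_smul] at hx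
    have h := hH.2.2 _ hx
    rw [conj_smul_mul, conj_smul_mul] at h
    have h2 := congrArg (fun K => MulAut.conj g • K) h
    simpa only [Subgroup.smul_inf, ← conj_smul_mul, mul_inv_cancel, mul_inv_cancel_left,
      ← mul_assoc, one_mul, conj_smul_one, Subgroup.smul_bot] using h2

theorem isFrobeniusComplement_subgroupOf {H L : Subgroup G}
    (hH : Cfsg.IsFrobeniusComplement H) (hd : L ⊓ H ≠ ⊥) (hL : ¬ L ≤ H) :
    Cfsg.IsFrobeniusComplement (H.subgroupOf L) := by
  refine ⟨fun h => hd ?_, fun h => hL (Subgroup.subgroupOf_eq_top.mp h), fun g hg => ?_⟩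
  · rwa [Subgroup.subgroupOf_eq_bot, disjoint_iff, inf_comm] at h
  · refine (Subgroup.eq_bot_iff_forall _).mpr fun x hx => ?_
    obtain ⟨h1, h2⟩ := Subgroup.mem_inf.mp hx
    rw [mem_conj_smul, Subgroup.mem_subgroupOf] at h2
    rw [Subgroup.mem_subgroupOf] at h1 hg
    have h3 : (x : G) ∈ H ⊓ MulAut.conj (g : G) • H :=
      Subgroup.mem_inf.mpr ⟨h1, by rw [mem_conj_smul]; simpa using h2⟩
    rw [hH.2.2 _ hg, Subgroup.mem_bot] at h3
    exact Subtype.ext h3

theorem conj_eq_of_meet {H : Subgroup G} (hH : Cfsg.IsFrobeniusComplement H) {a b : G}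
    (h : MulAut.conj a • H ⊓ MulAut.conj b • H ≠ ⊥) : MulAut.conj a • H = MulAut.conj b • H := by
  obtain ⟨z, hz, hz1⟩ := (Subgroup.bot_or_exists_ne_one _).resolve_left h
  obtain ⟨hza, hzb⟩ := Subgroup.mem_inf.mp hz
  rw [mem_conj_smul] at hza hzb
  have hab : a⁻¹ * b ∈ H := Cfsg.Agent.Characters.mem_of_frobenius_meet hH hza (by
    have : (a⁻¹ * b)⁻¹ * (a⁻¹ * z * a) * (a⁻¹ * b) = b⁻¹ * z * b := by group
    rw [this]; exact hzb) (fun h1 => hz1 (by simpa [mul_assoc, mul_eq_one_iff_eq_inv] using h1))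
  rw [show b = a * (a⁻¹ * b) by group, conj_smul_mul, Subgroup.conj_smul_eq_self_of_mem hab]

theorem exists_conj_mem_of_notMem_kernel {H : Subgroup G} {x : G}
    (hx : x ∉ Cfsg.frobeniusKernel H) : ∃ g : G, x ∈ MulAut.conj g • H := by
  by_contra h
  push Not at h
  exact hx (Or.inr h)

/-- Any two Frobenius complements have conjugates meeting nontrivially. -/
theorem exists_conj_meet [Finite G] {H H₀ : Subgroup G} (hH : Cfsg.IsFrobeniusComplement H)
    (hH₀ : Cfsg.IsFrobeniusComplement H₀) : ∃ g : G, H₀ ⊓ MulAut.conj g • H ≠ ⊥ := by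
  classical
  by_contra hno
  push Not at hno
  have hsub : (Cfsg.frobeniusKernel H₀)ᶜ ⊆ Cfsg.frobeniusKernel H := by
    intro x hx
    obtain ⟨g, hg⟩ := exists_conj_mem_of_notMem_kernel hx
    refine Or.inr fun b hb => ?_
    rw [mem_conj_smul] at hg hb
    have h : g⁻¹ * x * g ∈ H₀ ⊓ MulAut.conj (g⁻¹ * b) • H := by
      refine Subgroup.mem_inf.mpr ⟨hg, ?_⟩
      rw [mem_conj_smul]
      have : (g⁻¹ * b)⁻¹ * (g⁻¹ * x * g) * (g⁻¹ * b) = b⁻¹ * x * b := by group
      rw [this]; exact hb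
    rw [hno, Subgroup.mem_bot] at h
    exact hx (Or.inl (by simpa [mul_assoc, mul_eq_one_iff_eq_inv] using h))
  have h1 : 2 ≤ Nat.card H := Subgroup.one_lt_card_iff_ne_bot H |>.mpr hH.1
  have h2 : 2 ≤ Nat.card H₀ := Subgroup.one_lt_card_iff_ne_bot H₀ |>.mpr hH₀.1
  have hlt : ((Cfsg.frobeniusKernel H₀)ᶜ).ncard < (Cfsg.frobeniusKernel H).ncard := by
    refine Set.ncard_lt_ncard ⟨hsub, fun h => ?_⟩ (Set.toFinite _)
    exact h (Or.inl rfl : (1 : G) ∈ Cfsg.frobeniusKernel H) (Or.inl rfl)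
  rw [Set.ncard_compl, ← Nat.card_coe_set_eq, ← Nat.card_coe_set_eq,
    Cfsg.Agent.Characters.card_frobeniusKernel hH, Cfsg.Agent.Characters.card_frobeniusKernel hH₀]
    at hlt
  have e1 := H.index_mul_card
  have e2 := H₀.index_mul_card
  have e3 : H.index * 2 ≤ H.index * Nat.card H := Nat.mul_le_mul_left _ h1
  have e4 : H₀.index * 2 ≤ H₀.index * Nat.card H₀ := Nat.mul_le_mul_left _ h2
  omega

theorem exists_conj_le_aux :
    ∀ (n : ℕ) {G : Type u} [Group G] [Finite G], Nat.card G = n → ∀ (H H₀ : Subgroup G),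
      Cfsg.IsFrobeniusComplement H → Cfsg.IsFrobeniusComplement H₀ →
        Nat.card H₀ ≤ Nat.card H → ∃ g : G, MulAut.conj g • H₀ ≤ H := by
  intro n
  induction n using Nat.strongRecOn with | ind n ih => ?_
  intro G _ _ hn H H₀ hH hH₀ hle
  obtain ⟨N, hNset, hNn, hNc⟩ := Cfsg.Agent.Characters.frobenius_kernel_theorem hH
  have hNbot := kernel_ne_bot hH hNc
  have hA : N ⊓ H₀ = ⊥ := by
    by_contra hA
    have hNH₀ : ¬ N ≤ H₀ := by
      intro h
      obtain ⟨g, hg⟩ : ∃ g, g ∉ H₀ := by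
        by_contra h'
        push Not at h'
        exact hH₀.2.1 (eq_top_iff.mpr fun x _ => h' x)
      refine hNbot (le_bot_iff.mp (hH₀.2.2 g hg ▸ le_inf h ?_))
      intro x hx
      rw [mem_conj_smul]
      exact h (by simpa using hNn.conj_mem x hx g⁻¹)
    have hlt : Nat.card N < n := by
      refine hn ▸ lt_of_le_of_ne (Subgroup.card_le_card_group N) fun h => hH.1 ?_
      rw [Subgroup.eq_top_of_card_eq N h, Subgroup.isComplement'_top_left] at hNc
      exact hNc
    have hNS : ∀ g : G, g ∈ N ⊔ H₀ := by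
      intro g
      have hsm : MulAut.conj g • N = N :=
        conj_smul_eq_self_iff.mpr (Subgroup.le_normalizer_of_normal (K := ⊤) (Subgroup.mem_top g))
      have hinf : MulAut.conj g • (N ⊓ H₀) = N ⊓ MulAut.conj g • H₀ := by
        rw [Subgroup.smul_inf, hsm]
      have hd : N ⊓ MulAut.conj g • H₀ ≠ ⊥ := by
        rw [← hinf]
        intro h
        rw [← conj_inv_smul_smul g (N ⊓ H₀), h, Subgroup.smul_bot] at hA
        exact hA rfl
      have hnle : ¬ N ≤ MulAut.conj g • H₀ := by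
        intro h
        refine hNH₀ ?_
        rw [← conj_inv_smul_smul g H₀, ← conj_inv_smul_smul g N, hsm]
        exact Subgroup.pointwise_smul_le_pointwise_smul_iff.mpr h
      have hcard : Nat.card ((MulAut.conj g • H₀).subgroupOf N) = Nat.card (H₀.subgroupOf N) := by
        have hc : ∀ X : Subgroup G, Nat.card (X.subgroupOf N) = Nat.card ↥(X ⊓ N) := fun X => by
          rw [← Subgroup.subgroupOf_map_subtype, Subgroup.card_subtype]
        rw [hc, hc, inf_comm, ← hinf, card_conj_smul, inf_comm]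
      obtain ⟨m, hm⟩ := ih _ hlt rfl _ _ (isFrobeniusComplement_subgroupOf hH₀ hA hNH₀)
        (isFrobeniusComplement_subgroupOf (isFrobeniusComplement_conj hH₀ g) hd hnle) hcard.le
      obtain ⟨x, hx, hx1⟩ := (Subgroup.bot_or_exists_ne_one _).resolve_left hA
      obtain ⟨hxN, hxH⟩ := Subgroup.mem_inf.mp hx
      have hxg : (⟨g * x * g⁻¹, hNn.conj_mem x hxN g⟩ : N) ∈ (MulAut.conj g • H₀).subgroupOf N :=
        Subgroup.mem_subgroupOf.mpr (conj_mem_conj_smul hxH)
      have h2 := hm (conj_mem_conj_smul hxg)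
      rw [Subgroup.mem_subgroupOf] at h2
      have hmg : ((m : G) * g)⁻¹ ∈ H₀ := Cfsg.Agent.Characters.mem_of_frobenius_meet hH₀ hxH (by
        simpa [mul_assoc] using h2) hx1
      have := Subgroup.mul_mem_sup (inv_mem m.2) (inv_mem hmg)
      simpa using this
    have htop : N ⊔ H₀ = ⊤ := eq_top_iff.mpr fun g _ => hNS g
    have hcard := Cfsg.Agent.Cores.card_sup_mul_card_inf H₀ N
    rw [sup_comm, htop, Subgroup.card_top, ← hNc.card_mul_card, mul_assoc,
      mul_comm (Nat.card H₀)] at hcard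
    have h3 := Nat.eq_of_mul_eq_mul_left Nat.card_pos hcard
    have h4 : 2 ≤ Nat.card (H₀ ⊓ N : Subgroup G) :=
      (Subgroup.one_lt_card_iff_ne_bot _).mpr (by rwa [inf_comm])
    have h5 : Nat.card H * 2 ≤ Nat.card H * Nat.card (H₀ ⊓ N : Subgroup G) :=
      Nat.mul_le_mul_left _ h4
    have h6 : 0 < Nat.card H := Nat.card_pos
    omega
  obtain ⟨g, hg⟩ := exists_conj_meet hH hH₀
  by_cases hle' : H₀ ≤ MulAut.conj g • H
  · refine ⟨g⁻¹, ?_⟩
    rw [← conj_inv_smul_smul g H]
    exact Subgroup.pointwise_smul_le_pointwise_smul_iff.mpr hle'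
  exfalso
  have hD := isFrobeniusComplement_subgroupOf (isFrobeniusComplement_conj hH g) hg hle'
  obtain ⟨y, hyker, hy1⟩ :
      ∃ y, y ∈ Cfsg.frobeniusKernel ((MulAut.conj g • H).subgroupOf H₀) ∧ y ≠ 1 := by
    by_contra h
    push Not at h
    have hsub : Cfsg.frobeniusKernel ((MulAut.conj g • H).subgroupOf H₀) ⊆ {1} := fun z hz => h z hz
    have h2 := Set.ncard_le_ncard hsub (Set.finite_singleton 1)
    rw [Set.ncard_singleton, ← Nat.card_coe_set_eq,
      Cfsg.Agent.Characters.card_frobeniusKernel hD] at h2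
    exact absurd h2 (not_le.mpr (Subgroup.one_lt_index_of_ne_top hD.2.1))
  have hyN : (y : G) ∉ N := fun h => by
    have h2 : (y : G) ∈ N ⊓ H₀ := Subgroup.mem_inf.mpr ⟨h, y.2⟩
    rw [hA, Subgroup.mem_bot] at h2
    exact hy1 (Subtype.ext h2)
  rw [← SetLike.mem_coe, hNset] at hyN
  obtain ⟨b, hb⟩ := exists_conj_mem_of_notMem_kernel hyN
  have hd' : H₀ ⊓ MulAut.conj b • H ≠ ⊥ := fun h => by
    have h2 : (y : G) ∈ H₀ ⊓ MulAut.conj b • H := Subgroup.mem_inf.mpr ⟨y.2, hb⟩
    rw [h, Subgroup.mem_bot] at h2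
    exact hy1 (Subtype.ext h2)
  have hle'' : ¬ H₀ ≤ MulAut.conj b • H := fun h => by
    refine hle' ?_
    rw [conj_eq_of_meet hH (a := g) (b := b) fun hbot => hg (le_bot_iff.mp (hbot ▸
      le_inf inf_le_right (inf_le_left.trans h)))]
    exact h
  have hD' := isFrobeniusComplement_subgroupOf (isFrobeniusComplement_conj hH b) hd' hle''
  obtain ⟨c, hc⟩ := exists_conj_meet hD hD'
  have heq : MulAut.conj b • H = MulAut.conj ((c : G) * g) • H := by
    refine conj_eq_of_meet hH fun hbot => hc ((Subgroup.eq_bot_iff_forall _).mpr fun z hz => ?_)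
    obtain ⟨h1, h2⟩ := Subgroup.mem_inf.mp hz
    rw [mem_conj_smul, Subgroup.mem_subgroupOf] at h2
    rw [Subgroup.mem_subgroupOf] at h1
    have h3 : (z : G) ∈ MulAut.conj b • H ⊓ MulAut.conj ((c : G) * g) • H := by
      refine Subgroup.mem_inf.mpr ⟨h1, ?_⟩
      rw [conj_smul_mul, mem_conj_smul]
      simpa using h2
    rw [hbot, Subgroup.mem_bot] at h3
    exact Subtype.ext h3
  rcases hyker with h | h
  · exact hy1 h
  · refine h c ?_
    rw [mem_conj_smul, Subgroup.mem_subgroupOf]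
    rw [heq, conj_smul_mul, mem_conj_smul] at hb
    simpa using hb

/-- A Frobenius complement of order at most that of another is conjugate into it. -/
theorem exists_conj_le [Finite G] {H H₀ : Subgroup G} (hH : Cfsg.IsFrobeniusComplement H)
    (hH₀ : Cfsg.IsFrobeniusComplement H₀) (hle : Nat.card H₀ ≤ Nat.card H) :
    ∃ g : G, MulAut.conj g • H₀ ≤ H :=
  exists_conj_le_aux _ rfl H H₀ hH hH₀ hle

/-- Nested Frobenius complements are equal. -/
theorem eq_of_le [Finite G] {H H₀ : Subgroup G} (hH : Cfsg.IsFrobeniusComplement H)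
    (hH₀ : Cfsg.IsFrobeniusComplement H₀) (hle : H₀ ≤ H) : H₀ = H := by
  by_contra hne
  obtain ⟨N, -, hNn, hNc⟩ := Cfsg.Agent.Characters.frobenius_kernel_theorem hH
  obtain ⟨N₀, -, hN₀n, hN₀c⟩ := Cfsg.Agent.Characters.frobenius_kernel_theorem hH₀
  have hNbot := kernel_ne_bot hH hNc
  have hfpf := fpf_of_kernel hH hNc
  have hfpf₀ := fpf_of_kernel hH₀ hN₀c
  let A := N₀ ⊓ H
  have hA : A ≠ ⊥ := by
    intro hA
    refine hne (Subgroup.eq_of_le_of_card_ge hle ?_)
    have hsup : N₀ ⊔ H = ⊤ :=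
      top_le_iff.mp (hN₀c.sup_eq_top ▸ sup_le_sup_left hle N₀)
    have h := card_sup_of_disjoint (Subgroup.le_normalizer_of_normal (K := H)) (disjoint_iff.mpr hA)
    rw [hsup, Subgroup.card_top, ← hN₀c.card_mul_card] at h
    exact (Nat.eq_of_mul_eq_mul_left Nat.card_pos h).ge
  obtain ⟨q, hq, hdvd⟩ := Nat.exists_prime_and_dvd
    (mt Subgroup.card_eq_one.mp hH₀.1 : Nat.card H₀ ≠ 1)
  have := Fact.mk hq
  obtain ⟨⟨x, hx⟩, hox⟩ := exists_prime_orderOf_dvd_card' q hdvd
  rw [Subgroup.orderOf_mk] at hox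
  have hZ : Subgroup.zpowers x ≤ H₀ := Subgroup.zpowers_le.mpr hx
  have hZA : Subgroup.zpowers x ≤ Subgroup.normalizer (A : Set G) :=
    le_trans (le_inf Subgroup.le_normalizer_of_normal ((hZ.trans hle).trans Subgroup.le_normalizer))
      Subgroup.inf_normalizer_le_normalizer_inf
  obtain ⟨V, hVA, hV, hVab, hZV⟩ := fpf_exists_abelian hZA (fpf_mono hfpf₀ hZ inf_le_left)
    (Or.inl (isSolvable_of_isMulCommutative _)) hA
  obtain ⟨p, hp, hpV⟩ := Nat.exists_prime_and_dvd
    (mt Subgroup.card_eq_one.mp hV : Nat.card V ≠ 1)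
  have := Fact.mk hp
  obtain ⟨⟨a, ha⟩, hoa⟩ := exists_prime_orderOf_dvd_card' p hpV
  rw [Subgroup.orderOf_mk] at hoa
  have haA := Subgroup.mem_inf.mp (hVA ha)
  have hb := (Subgroup.le_normalizer_iff.mp hZV) x (Subgroup.mem_zpowers x) a ha
  have hHN : H ≤ Subgroup.normalizer (N : Set G) := Subgroup.le_normalizer_of_normal
  have hob : orderOf (x * a * x⁻¹) = p := by
    rw [← hoa, ← MulAut.conj_apply]; exact MulEquiv.orderOf_eq _ a
  have hmem := (fpf_commute_and_mem hHN hfpf hNbot hp hp haA.2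
    (Subgroup.mem_inf.mp (hVA hb)).2 hoa hob (by
      have hcomm : x * a * x⁻¹ * a = a * (x * a * x⁻¹) :=
        congrArg Subtype.val (hVab.is_comm.comm (⟨_, hb⟩ : V) ⟨a, ha⟩)
      rw [hcomm, mul_inv_cancel_right]; exact Subgroup.mem_zpowers a)).2 rfl
  have hcomm := (fpf_commute_and_mem hHN hfpf hNbot hp hq haA.2 (hle hx) hoa hox hmem).1
  have ha1 := fpf_eq_one hfpf₀ hx (fun h => hq.ne_one (by rw [← hox, h, orderOf_one])) haA.1
    hcomm.symm
  exact hp.ne_one (by rw [← hoa, ha1, orderOf_one])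

/-- Frobenius complements are conjugate. -/
theorem exists_conj_eq [Finite G] {H H₀ : Subgroup G} (hH : Cfsg.IsFrobeniusComplement H)
    (hH₀ : Cfsg.IsFrobeniusComplement H₀) : ∃ g : G, MulAut.conj g • H₀ = H := by
  rcases le_total (Nat.card H₀) (Nat.card H) with h | h
  · obtain ⟨g, hg⟩ := exists_conj_le hH hH₀ h
    exact ⟨g, eq_of_le hH (isFrobeniusComplement_conj hH₀ g) hg⟩
  · obtain ⟨g, hg⟩ := exists_conj_le hH₀ hH h
    refine ⟨g⁻¹, ?_⟩
    rw [← eq_of_le hH₀ (isFrobeniusComplement_conj hH g) hg, conj_inv_smul_smul]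

/-- An involution acting without fixed points inverts every element. -/
theorem fpf_involution_inv [Finite G] {A K : Subgroup G}
    (hAK : A ≤ Subgroup.normalizer (K : Set G))
    (hfpf : ∀ a ∈ A, a ≠ 1 → K ⊓ Subgroup.centralizer {a} = ⊥) {s : G} (hs : s ∈ A)
    (hs2 : orderOf s = 2) : ∀ k ∈ K, s * k * s⁻¹ = k⁻¹ := by
  have hss : s * s = 1 := by rw [← sq, ← hs2, pow_orderOf_eq_one]
  let φ : K ≃* K := Subgroup.normalizerMonoidHom K ⟨s, hAK hs⟩
  have hval : ∀ k : K, ((φ k : K) : G) = s * k * s⁻¹ := fun k => rfl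
  have hφ : MonoidHom.FixedPointFree φ := fun k hk => Subtype.ext
    (fpf_eq_one hfpf hs (fun h => by rw [h, orderOf_one] at hs2; omega) k.2
      (mul_inv_eq_iff_eq_mul.mp ((hval k).symm.trans (congrArg Subtype.val hk))).symm)
  have hinv : Function.Involutive φ := fun k => Subtype.ext (by
    rw [hval, hval]
    calc s * (s * k * s⁻¹) * s⁻¹ = (s * s) * k * (s * s)⁻¹ := by group
      _ = k := by rw [hss]; group)
  intro k hk
  exact ((hval ⟨k, hk⟩).symm.trans
    (congrArg Subtype.val (congrFun (hφ.coe_eq_inv_of_involutive hinv) ⟨k, hk⟩)))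

theorem fpf_involution_unique [Finite G] {A K : Subgroup G}
    (hAK : A ≤ Subgroup.normalizer (K : Set G))
    (hfpf : ∀ a ∈ A, a ≠ 1 → K ⊓ Subgroup.centralizer {a} = ⊥) (hK : K ≠ ⊥) {s t : G}
    (hs : s ∈ A) (hs2 : orderOf s = 2) (ht : t ∈ A) (ht2 : orderOf t = 2) : t = s := by
  by_contra hne
  refine hK ((Subgroup.eq_bot_iff_forall _).mpr fun k hk =>
    fpf_eq_one hfpf (mul_mem hs ht) (fun h => hne ?_) hk ?_)
  · have hss : s * s = 1 := by rw [← sq, ← hs2, pow_orderOf_eq_one]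
    rw [eq_inv_of_mul_eq_one_right h, inv_eq_of_mul_eq_one_right hss]
  · have h1 := fpf_involution_inv hAK hfpf ht ht2 k hk
    have h3 := fpf_involution_inv hAK hfpf hs hs2 k⁻¹ (inv_mem hk)
    have h2 : s * (t * k * t⁻¹) * s⁻¹ = k := by rw [h1, h3, inv_inv]
    rw [eq_comm, ← mul_inv_eq_iff_eq_mul]
    calc s * t * k * (s * t)⁻¹ = s * (t * k * t⁻¹) * s⁻¹ := by group
      _ = k := h2

/-- A nontrivial group acting without fixed points on a nontrivial group has nontrivial centre. -/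
theorem fpf_center_ne_bot [Finite G] {A K : Subgroup G}
    (hAK : A ≤ Subgroup.normalizer (K : Set G))
    (hfpf : ∀ a ∈ A, a ≠ 1 → K ⊓ Subgroup.centralizer {a} = ⊥) (hA : A ≠ ⊥) (hK : K ≠ ⊥) :
    Subgroup.center A ≠ ⊥ := by
  have : Nontrivial A := (Subgroup.nontrivial_iff_ne_bot A).mpr hA
  by_cases heven : 2 ∣ Nat.card A
  · obtain ⟨⟨s, hs⟩, hso⟩ := exists_prime_orderOf_dvd_card' 2 heven
    rw [Subgroup.orderOf_mk] at hso
    intro h
    have hmem : (⟨s, hs⟩ : A) ∈ Subgroup.center A := by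
      rw [Subgroup.mem_center_iff]
      intro g
      have hu := fpf_involution_unique hAK hfpf hK hs hso
        (mul_mem (mul_mem g.2 hs) (inv_mem g.2)) (by
          rw [← hso, ← MulAut.conj_apply]; exact MulEquiv.orderOf_eq _ s)
      exact Subtype.ext (mul_inv_eq_iff_eq_mul.mp hu)
    rw [h, Subgroup.mem_bot] at hmem
    have : s = 1 := congrArg Subtype.val hmem
    rw [this, orderOf_one] at hso
    omega
  have hZ : IsZGroup A := by
    refine ⟨fun p hp P => ?_⟩
    have := Fact.mk hp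
    by_cases hp2 : p = 2
    · subst hp2
      have h1 : (P : Subgroup A) = ⊥ := by
        rw [← Subgroup.card_eq_one, P.card_eq_multiplicity,
          Nat.factorization_eq_zero_of_not_dvd heven, pow_zero]
      rw [h1]; infer_instance
    · have hPA : (P : Subgroup A).map A.subtype ≤ A := Subgroup.map_subtype_le _
      rcases fpf_isCyclic_or_quaternion (A := (P : Subgroup A).map A.subtype) (P.2.map _)
        (hPA.trans hAK) (fpf_mono hfpf hPA le_rfl) hK with h | ⟨h, -⟩
      · exact isCyclic_of_surjective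
          ((P : Subgroup A).equivMapOfInjective A.subtype Subtype.coe_injective).symm
          (((P : Subgroup A).equivMapOfInjective A.subtype Subtype.coe_injective).symm.surjective)
      · exact absurd h hp2
  by_cases hC : commutator A = ⊥
  · rw [← Subgroup.nontrivial_iff_ne_bot] at *
    have : Subgroup.center A = ⊤ := by
      rw [eq_top_iff, ← Subgroup.commutator_top_right_eq_bot_iff_le_center]
      exact hC
    rw [this]
    exact Subgroup.topEquiv.nontrivial
  have hCcyc : IsCyclic (commutator A) := IsZGroup.isCyclic_commutator _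
  have hCab : IsMulCommutative (commutator A) := inferInstance
  obtain ⟨B, hB⟩ := Subgroup.exists_right_complement'_of_coprime (N := commutator A)
    (IsZGroup.coprime_commutator_index _)
  have hBbot : B ≠ ⊥ := fun h => by
    rw [h, Subgroup.isComplement'_bot_right] at hB
    exact absurd hB (IsZGroup.commutator_lt _).ne
  have hcopB : (Nat.card B).Coprime (Nat.card (commutator A)) := by
    rw [← hB.symm.index_eq_card]; exact (IsZGroup.coprime_commutator_index _).symm
  have hBab : IsMulCommutative B := by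
    rw [← Subgroup.commutator_self_eq_bot_iff]
    refine le_bot_iff.mp ((le_inf ?_ ?_).trans (Subgroup.disjoint_of_coprime_natCard hcopB).le_bot)
    · exact commutator_le_of_le_normalizer Subgroup.le_normalizer
    · exact Subgroup.commutator_mono le_top le_top
  obtain ⟨q, hq, hqB⟩ := Nat.exists_prime_and_dvd
    (mt Subgroup.card_eq_one.mp hBbot : Nat.card B ≠ 1)
  have := Fact.mk hq
  obtain ⟨⟨y, hy⟩, hoy⟩ := exists_prime_orderOf_dvd_card' q hqB
  rw [Subgroup.orderOf_mk] at hoy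
  have hyZ : Subgroup.zpowers y ≤ Subgroup.centralizer (commutator A : Set A) := by
    refine le_centralizer_of_prime_order_abelian Subgroup.le_normalizer_of_normal
      (hcopB.coprime_dvd_left (Subgroup.card_dvd_of_le (Subgroup.zpowers_le.mpr hy))) ?_
    intro v hv hvp b hb
    have hw : y * v * y⁻¹ ∈ commutator A := Subgroup.Normal.conj_mem inferInstance v hv y
    have how : orderOf ((y * v * y⁻¹ : A) : G) = orderOf v := by
      rw [Subgroup.orderOf_coe, ← MulAut.conj_apply]; exact MulEquiv.orderOf_eq _ v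
    have hvw : ((y * v * y⁻¹ : A) : G) * (v : G) * ((y * v * y⁻¹ : A) : G)⁻¹ ∈
        Subgroup.zpowers (v : G) := by
      have hc : y * v * y⁻¹ * v = v * (y * v * y⁻¹) :=
        congrArg Subtype.val (hCab.is_comm.comm (⟨_, hw⟩ : commutator A) ⟨v, hv⟩)
      have hc' : ((y * v * y⁻¹ : A) : G) * (v : G) = (v : G) * ((y * v * y⁻¹ : A) : G) :=
        congrArg Subtype.val hc
      rw [hc', mul_inv_cancel_right]; exact Subgroup.mem_zpowers _
    have hmem := (fpf_commute_and_mem hAK hfpf hK hvp hvp v.2 (y * v * y⁻¹).2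
      (Subgroup.orderOf_coe v) how hvw).2 rfl
    have hcy := (fpf_commute_and_mem hAK hfpf hK hvp hq v.2 y.2 (Subgroup.orderOf_coe v)
      ((Subgroup.orderOf_coe y).trans hoy) (by simpa using hmem)).1
    obtain ⟨k, rfl⟩ := hb
    exact ((Commute.zpow_left (Subtype.ext hcy : Commute y v) k)).eq
  intro hbot
  have hyc : y ∈ Subgroup.center A := by
    rw [Subgroup.mem_center_iff]
    intro g
    have hg : g ∈ commutator A ⊔ B := by rw [hB.sup_eq_top]; exact Subgroup.mem_top g
    obtain ⟨u, hu, v, hv, rfl⟩ :=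
      (mem_sup_of_le_normalizer Subgroup.le_normalizer_of_normal).mp hg
    have h1 : u * y = y * u :=
      Subgroup.mem_centralizer_iff.mp (hyZ (Subgroup.mem_zpowers y)) u hu
    have h2 : v * y = y * v := congrArg Subtype.val (hBab.is_comm.comm (⟨v, hv⟩ : B) ⟨y, hy⟩)
    rw [mul_assoc, h2, ← mul_assoc, h1, mul_assoc]
  rw [hbot, Subgroup.mem_bot] at hyc
  rw [hyc, orderOf_one] at hoy
  exact hq.ne_one hoy.symm

end Cfsg.Agent.Solvable.Frobenius
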