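import Cfsg.Agent.Lib.Coprime.Basic
import Mathlib.Algebra.BigOperators.Group.Finset.Basic

/-!
Gaschütz's theorem: an abelian normal subgroup `K` with a complement in a subgroup `U` of index
prime to `|K|` has a complement, and complements agreeing on `U` are conjugate.
-/

set_option autoImplicit false

namespace Cfsg.Agent.Solvable.Gaschutz

open scoped Pointwise IsMulCommutative
open Cfsg.Agent.Coprime

variable {G : Type*} [Group G] (K U A : Subgroup G)

/-- Sections of `G ⧸ A → G ⧸ U`. -/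
abbrev Sect (hAU : A ≤ U) : Type _ :=
  {f : G ⧸ U → G ⧸ A // ∀ q, Subgroup.quotientMapOfLE hAU (f q) = q}

variable {K U A}

theorem quotientMapOfLE_smul (hAU : A ≤ U) (g : G) (z : G ⧸ A) :
    Subgroup.quotientMapOfLE hAU (g • z) = g • Subgroup.quotientMapOfLE hAU z := by
  induction z using QuotientGroup.induction_on with
  | _ x => rfl

theorem exists_unique_smul [K.Normal] (hAU : A ≤ U) (hAK : A ⊓ K = ⊥) (hKA : K ⊔ A = U)
    {z w : G ⧸ A} (h : Subgroup.quotientMapOfLE hAU z = Subgroup.quotientMapOfLE hAU w) :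
    ∃! k : K, (k : G) • w = z := by
  induction z using QuotientGroup.induction_on with
  | _ x =>
  induction w using QuotientGroup.induction_on with
  | _ y =>
  have h1 : y⁻¹ * x ∈ U := QuotientGroup.eq.mp h.symm
  rw [← hKA] at h1
  obtain ⟨k, hk, a, ha, hka⟩ :=
    (mem_sup_of_le_normalizer Subgroup.le_normalizer_of_normal).mp h1
  refine ⟨⟨y * k * y⁻¹, Subgroup.Normal.conj_mem inferInstance k hk y⟩, ?_, fun k' hk' => ?_⟩
  · change ((y * k * y⁻¹ * y : G) : G ⧸ A) = (x : G ⧸ A)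
    rw [QuotientGroup.eq]
    have : (y * k * y⁻¹ * y)⁻¹ * x = a := by
      rw [inv_mul_cancel_right, mul_inv_rev, mul_assoc, ← hka, inv_mul_cancel_left]
    rw [this]; exact ha
  · apply Subtype.ext
    have h2 : ((k' : G) * y)⁻¹ * x ∈ A := QuotientGroup.eq.mp hk'
    have h3 : k⁻¹ * (y⁻¹ * k' * y) ∈ A ⊓ K := by
      refine Subgroup.mem_inf.mpr ⟨?_, mul_mem (inv_mem hk)
        (by simpa using Subgroup.Normal.conj_mem inferInstance (k' : G) k'.2 y⁻¹)⟩
      have h4 : y⁻¹ * x = k * a := hka.symm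
      have h5 : k⁻¹ * (y⁻¹ * k' * y) = a * (((k' : G) * y)⁻¹ * x)⁻¹ := by
        rw [eq_inv_mul_iff_mul_eq.symm.mp h4.symm]; group
      rw [h5]; exact mul_mem ha (inv_mem h2)
    rw [hAK, Subgroup.mem_bot, inv_mul_eq_one] at h3
    change (k' : G) = y * k * y⁻¹
    rw [h3]; group

variable [K.Normal] (hAU : A ≤ U) (hAK : A ⊓ K = ⊥) (hKA : K ⊔ A = U)

/-- The element of `K` carrying `τ q` to `σ q`. -/
noncomputable def carry (σ τ : Sect U A hAU) (q : G ⧸ U) : K :=
  (exists_unique_smul hAU hAK hKA ((σ.2 q).trans (τ.2 q).symm)).exists.choose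

theorem carry_spec (σ τ : Sect U A hAU) (q : G ⧸ U) :
    (carry hAU hAK hKA σ τ q : G) • τ.1 q = σ.1 q :=
  (exists_unique_smul hAU hAK hKA ((σ.2 q).trans (τ.2 q).symm)).exists.choose_spec

theorem carry_eq {σ τ : Sect U A hAU} {q : G ⧸ U} {k : K} (h : (k : G) • τ.1 q = σ.1 q) :
    carry hAU hAK hKA σ τ q = k :=
  (exists_unique_smul hAU hAK hKA ((σ.2 q).trans (τ.2 q).symm)).unique
    (carry_spec hAU hAK hKA σ τ q) h

variable [Finite G] [IsMulCommutative K]

/-- The difference of two sections. -/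
noncomputable def delta (σ τ : Sect U A hAU) : K :=
  letI := Fintype.ofFinite (G ⧸ U)
  ∏ q, carry hAU hAK hKA σ τ q

theorem delta_mul (σ τ ρ : Sect U A hAU) :
    delta hAU hAK hKA σ τ * delta hAU hAK hKA τ ρ = delta hAU hAK hKA σ ρ := by
  simp only [delta, ← Finset.prod_mul_distrib]
  refine Finset.prod_congr rfl fun q _ => (carry_eq hAU hAK hKA ?_).symm
  rw [Subgroup.coe_mul, mul_smul, carry_spec, carry_spec]

theorem delta_self (σ : Sect U A hAU) : delta hAU hAK hKA σ σ = 1 :=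
  Finset.prod_eq_one fun q _ => carry_eq hAU hAK hKA (by simp)

/-- The action of `g` on sections. -/
def act (g : G) (σ : Sect U A hAU) : Sect U A hAU :=
  ⟨fun q => g • σ.1 (g⁻¹ • q), fun q => by rw [quotientMapOfLE_smul, σ.2, smul_inv_smul]⟩

theorem act_mul (g h : G) (σ : Sect U A hAU) : act hAU (g * h) σ = act hAU g (act hAU h σ) :=
  Subtype.ext (funext fun q => by simp [act, mul_smul, mul_inv_rev])

theorem act_one (σ : Sect U A hAU) : act hAU 1 σ = σ :=
  Subtype.ext (funext fun q => by simp [act])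

theorem delta_act (g : G) (σ τ : Sect U A hAU) :
    (delta hAU hAK hKA (act hAU g σ) (act hAU g τ) : G) =
      g * (delta hAU hAK hKA σ τ : G) * g⁻¹ := by
  letI := Fintype.ofFinite (G ⧸ U)
  let φ : K →* K := (MulAut.conjNormal g : K ≃* K).toMonoidHom
  have h : delta hAU hAK hKA (act hAU g σ) (act hAU g τ) = φ (delta hAU hAK hKA σ τ) := by
    simp only [delta, map_prod]
    refine Fintype.prod_equiv (MulAction.toPerm g⁻¹) _ _ fun q => carry_eq hAU hAK hKA ?_
    simp only [φ, act, MulEquiv.coe_toMonoidHom, MulAction.toPerm_apply, MulAut.conjNormal_apply,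
      ← mul_smul, inv_mul_cancel_right]
    rw [mul_smul, carry_spec]
  rw [h]
  exact MulAut.conjNormal_apply _ _

theorem delta_act_mem (hKU : K ≤ U) (k : K) (σ : Sect U A hAU) :
    delta hAU hAK hKA (act hAU (k : G) σ) σ = k ^ U.index := by
  letI := Fintype.ofFinite (G ⧸ U)
  have h : ∀ q, carry hAU hAK hKA (act hAU (k : G) σ) σ q = k := by
    intro q
    refine carry_eq hAU hAK hKA ?_
    have hq : (k : G)⁻¹ • q = q := by
      induction q using QuotientGroup.induction_on with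
      | _ x =>
        refine QuotientGroup.eq.mpr (hKU ?_)
        simpa [mul_assoc] using Subgroup.Normal.conj_mem inferInstance (k : G) k.2 x⁻¹
    simp only [act, hq]
  rw [delta, Finset.prod_congr rfl fun q _ => h q, Finset.prod_const, Finset.card_univ,
    Subgroup.index_eq_card, Nat.card_eq_fintype_card]

/-- The stabiliser of a section up to difference one. -/
noncomputable def stab (σ : Sect U A hAU) : Subgroup G where
  carrier := {g | delta hAU hAK hKA (act hAU g σ) σ = 1}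
  one_mem' := by
    rw [Set.mem_ofPred_eq, act_one]; exact delta_self hAU hAK hKA σ
  mul_mem' := fun {g h} hg hh => by
    rw [Set.mem_ofPred_eq] at *
    rw [act_mul, ← delta_mul hAU hAK hKA _ (act hAU g σ) σ, hg, mul_one]
    exact Subtype.ext (by rw [delta_act, hh]; simp)
  inv_mem' := fun {g} hg => by
    rw [Set.mem_ofPred_eq] at *
    have h := delta_act hAU hAK hKA g⁻¹ (act hAU g σ) σ
    rw [hg, ← act_mul, inv_mul_cancel, act_one] at h
    have h1 : delta hAU hAK hKA σ (act hAU g⁻¹ σ) = 1 := Subtype.ext (by simpa using h)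
    have h2 := delta_mul hAU hAK hKA (act hAU g⁻¹ σ) σ (act hAU g⁻¹ σ)
    rwa [h1, mul_one, delta_self] at h2

theorem isComplement'_stab (hKU : K ≤ U) (hcop : (Nat.card K).Coprime U.index)
    (σ : Sect U A hAU) : Subgroup.IsComplement' K (stab hAU hAK hKA σ) := by
  refine Subgroup.isComplement'_of_disjoint_and_mul_eq_univ ?_ ?_
  · rw [Subgroup.disjoint_def]
    intro k hkK hkS
    have h : delta hAU hAK hKA (act hAU k σ) σ = 1 := hkS
    rw [delta_act_mem hAU hAK hKA hKU ⟨k, hkK⟩ σ] at h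
    exact congrArg Subtype.val
      ((powCoprime hcop).injective (h.trans (one_pow _).symm) : (⟨k, hkK⟩ : K) = 1)
  · refine Set.eq_univ_iff_forall.mpr fun g => ?_
    obtain ⟨k, hk⟩ := (powCoprime hcop).surjective (delta hAU hAK hKA (act hAU g σ) σ)⁻¹
    have hk' : k ^ U.index = (delta hAU hAK hKA (act hAU g σ) σ)⁻¹ := hk
    refine ⟨(k : G)⁻¹, K.inv_mem k.2, (k : G) * g, ?_, inv_mul_cancel_left _ _⟩
    change delta hAU hAK hKA (act hAU ((k : G) * g) σ) σ = 1
    rw [act_mul, ← delta_mul hAU hAK hKA _ (act hAU (k : G) σ) σ,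
      delta_act_mem hAU hAK hKA hKU k σ, hk', mul_inv_eq_one]
    apply Subtype.ext
    rw [delta_act, congrArg Subtype.val (mul_comm k (delta hAU hAK hKA (act hAU g σ) σ)) |>
      (fun e => (mul_inv_eq_iff_eq_mul.mpr e : (k : G) * _ * (k : G)⁻¹ = _))]

theorem exists_sect : Nonempty (Sect U A hAU) :=
  ⟨⟨fun q => ((Quotient.out q : G) : G ⧸ A), fun q => QuotientGroup.out_eq' q⟩⟩

/-- Gaschütz: existence of a complement. -/
theorem exists_complement' (hKU : K ≤ U) (hcop : (Nat.card K).Coprime U.index) (hAU : A ≤ U)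
    (hAK : A ⊓ K = ⊥) (hKA : K ⊔ A = U) : ∃ H : Subgroup G, Subgroup.IsComplement' K H := by
  obtain ⟨σ⟩ := exists_sect (A := A) hAU
  exact ⟨_, isComplement'_stab hAU hAK hKA hKU hcop σ⟩

theorem exists_fixed_sect {H : Subgroup G} (hc : Subgroup.IsComplement' K H) (hKU : K ≤ U)
    (hHU : H ⊓ U = A) (hAU : A ≤ U) :
    ∃ σ : Sect U A hAU, ∀ h ∈ H, act hAU h σ = σ := by
  have hrep : ∀ q : G ⧸ U, ∃ h : H, ((h : G) : G ⧸ U) = q := by
    intro q
    induction q using QuotientGroup.induction_on with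
    | _ x =>
      have hx : x ∈ K ⊔ H := by rw [hc.sup_eq_top]; exact Subgroup.mem_top x
      obtain ⟨k, hk, h, hh, rfl⟩ :=
        (mem_sup_of_le_normalizer Subgroup.le_normalizer_of_normal).mp hx
      refine ⟨⟨h, hh⟩, QuotientGroup.eq.mpr (hKU ?_)⟩
      simpa [mul_assoc] using Subgroup.Normal.conj_mem inferInstance k hk h⁻¹
  choose r hr using hrep
  refine ⟨⟨fun q => ((r q : G) : G ⧸ A), hr⟩, fun g hg => Subtype.ext (funext fun q => ?_)⟩
  change ((g * r (g⁻¹ • q) : G) : G ⧸ A) = ((r q : G) : G ⧸ A)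
  rw [QuotientGroup.eq, ← hHU]
  refine Subgroup.mem_inf.mpr ⟨mul_mem (inv_mem (mul_mem hg (r _).2)) (r q).2, ?_⟩
  rw [← QuotientGroup.eq, hr q]
  change g • ((r (g⁻¹ • q) : G) : G ⧸ U) = q
  rw [hr, smul_inv_smul]

/-- Gaschütz: conjugacy of complements agreeing on `U`. -/
theorem exists_conj {H₀ H₁ : Subgroup G} (h₀ : Subgroup.IsComplement' K H₀)
    (h₁ : Subgroup.IsComplement' K H₁) (hKU : K ≤ U) (hcop : (Nat.card K).Coprime U.index)
    (hU : H₀ ⊓ U = H₁ ⊓ U) : ∃ g : G, MulAut.conj g • H₀ = H₁ := by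
  have hAU' : H₀ ⊓ U ≤ U := inf_le_right
  have hAK' : (H₀ ⊓ U) ⊓ K = ⊥ := le_bot_iff.mp (le_trans
    (inf_le_inf_right K inf_le_left) (by rw [inf_comm]; exact h₀.disjoint.le_bot))
  have hKA' : K ⊔ (H₀ ⊓ U) = U := by
    refine le_antisymm (sup_le hKU inf_le_right) fun u hu => ?_
    have hu' : u ∈ K ⊔ H₀ := by rw [h₀.sup_eq_top]; exact Subgroup.mem_top u
    obtain ⟨k, hk, h, hh, rfl⟩ :=
      (mem_sup_of_le_normalizer Subgroup.le_normalizer_of_normal).mp hu'
    exact Subgroup.mul_mem_sup hk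
      (Subgroup.mem_inf.mpr ⟨hh, (mul_mem_cancel_left (hKU hk)).mp hu⟩)
  obtain ⟨σ₀, hσ₀⟩ := exists_fixed_sect h₀ hKU rfl hAU'
  obtain ⟨σ₁, hσ₁⟩ := exists_fixed_sect h₁ hKU hU.symm hAU'
  have heq : ∀ {H : Subgroup G} {σ : Sect U (H₀ ⊓ U) hAU'}, Subgroup.IsComplement' K H →
      (∀ h ∈ H, act hAU' h σ = σ) → stab hAU' hAK' hKA' σ = H := by
    intro H σ hH hσ
    have hle : H ≤ stab hAU' hAK' hKA' σ := fun h hh => by
      change delta hAU' hAK' hKA' (act hAU' h σ) σ = 1
      rw [hσ h hh, delta_self]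
    refine (Subgroup.eq_of_le_of_card_ge hle (le_of_eq ?_)).symm
    have e := (isComplement'_stab hAU' hAK' hKA' hKU hcop σ).card_mul_card
    rw [← hH.card_mul_card] at e
    exact Nat.eq_of_mul_eq_mul_left Nat.card_pos e
  obtain ⟨k, hk⟩ := (powCoprime hcop).surjective (delta hAU' hAK' hKA' σ₁ σ₀)
  have hk' : k ^ U.index = delta hAU' hAK' hKA' σ₁ σ₀ := hk
  refine ⟨k, ?_⟩
  refine (Subgroup.eq_of_le_of_card_ge ?_ (le_of_eq ?_)).symm
  · intro h hh
    rw [mem_conj_smul, ← heq h₀ hσ₀]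
    change delta hAU' hAK' hKA' (act hAU' ((k : G)⁻¹ * h * k) σ₀) σ₀ = 1
    let τ := act hAU' (k : G) σ₀
    have hστ : delta hAU' hAK' hKA' σ₁ τ = 1 := by
      have h2 := delta_mul hAU' hAK' hKA' σ₁ τ σ₀
      rw [delta_act_mem hAU' hAK' hKA' hKU k σ₀, hk', mul_eq_right] at h2
      exact h2
    have hτσ : delta hAU' hAK' hKA' τ σ₁ = 1 := by
      have h2 := delta_mul hAU' hAK' hKA' τ σ₁ τ
      rwa [hστ, mul_one, delta_self] at h2
    have h3 : delta hAU' hAK' hKA' (act hAU' h τ) τ = 1 := by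
      rw [← delta_mul hAU' hAK' hKA' _ σ₁ τ, hστ, mul_one]
      apply Subtype.ext
      rw [← hσ₁ h hh, delta_act, hτσ]
      simp
    have h4 : act hAU' ((k : G)⁻¹ * h * k) σ₀ = act hAU' (k : G)⁻¹ (act hAU' h τ) := by
      rw [act_mul, act_mul]
    have h5 : act hAU' (k : G)⁻¹ τ = σ₀ := by rw [← act_mul, inv_mul_cancel, act_one]
    rw [h4]
    conv_lhs => arg 5; rw [← h5]
    apply Subtype.ext
    rw [delta_act, h3]
    simp
  · rw [card_conj_smul]
    have e := h₀.card_mul_card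
    rw [← h₁.card_mul_card] at e
    exact Nat.eq_of_mul_eq_mul_left Nat.card_pos e

end Cfsg.Agent.Solvable.Gaschutz
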